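import Mathlib

/-!
# Modular eigenspaces of integral matrices of finite order
-/

set_option autoImplicit false

namespace CfsgLib.Known.Homocyclic

open Polynomial
open scoped Matrix

variable {l : ℕ}

/-- A complex root of the characteristic polynomial of a matrix of finite order is a root of unity. -/
theorem pow_eq_one_of_charpoly_root {W : Matrix (Fin l) (Fin l) ℤ} {m : ℕ} (hW : W ^ m = 1) {x : ℂ}
    (hx : aeval x W.charpoly = 0) : x ^ m = 1 := by
  have hdet : ((W.map (Int.castRingHom ℂ)).charpoly).eval x = 0 := by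
    rw [Matrix.charpoly_map, eval_map]
    exact hx
  rw [Matrix.eval_charpoly] at hdet
  obtain ⟨w, hw, hWw⟩ := Matrix.exists_mulVec_eq_zero_iff.2 hdet
  rw [Matrix.sub_mulVec, sub_eq_zero] at hWw
  have hev : ∀ k : ℕ, ((W ^ k).map (Int.castRingHom ℂ)) *ᵥ w = x ^ k • w := by
    intro k
    induction k with
    | zero => simp [Matrix.map_one]
    | succ k ih =>
      rw [pow_succ, Matrix.map_mul, ← Matrix.mulVec_mulVec, ← hWw,
        show (Matrix.scalar (Fin l) x) *ᵥ w = x • w from funext fun i => by simp [Matrix.scalar_apply, Matrix.mulVec_diagonal],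
        Matrix.mulVec_smul, ih, smul_smul, pow_succ']
  have h1 := hev m
  rw [hW, Matrix.map_one _ (map_zero _) (map_one _), Matrix.one_mulVec] at h1
  obtain ⟨i, hi⟩ := Function.ne_iff.1 hw
  have h2 := congrFun h1 i
  rw [Pi.smul_apply, smul_eq_mul] at h2
  exact (mul_eq_right₀ hi).1 h2.symm

/-- A matrix of finite order is annihilated by any monic integral polynomial of which a power is a multiple of its
characteristic polynomial. -/
theorem aeval_eq_zero_of_dvd_pow {W : Matrix (Fin l) (Fin l) ℤ} {m : ℕ} (hm : 0 < m) (hW : W ^ m = 1) {p : ℤ[X]}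
    {k : ℕ} (hdvd : W.charpoly ∣ p ^ k) : aeval W p = 0 := by
  obtain ⟨f, hf⟩ : ∃ f, f = (Int.castRingHom ℚ).mapMatrix (m := Fin l) := ⟨_, rfl⟩
  have hfinj : Function.Injective f := by
    intro A B h
    refine Matrix.ext fun i j => ?_
    have := congrFun (congrFun h i) j
    simpa [hf] using this
  have hsep : (X ^ m - 1 : ℚ[X]).Separable := separable_X_pow_sub_C (1 : ℚ) (by exact_mod_cast hm.ne') one_ne_zero
  have h1 : minpoly ℚ (f W) ∣ X ^ m - 1 := minpoly.dvd ℚ _ (by
    rw [map_sub, map_pow, aeval_X, map_one, ← map_pow, hW, map_one, sub_self])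
  have h2 : minpoly ℚ (f W) ∣ (p.map (Int.castRingHom ℚ)) ^ k := by
    refine minpoly.dvd ℚ _ ?_
    rw [← Polynomial.map_pow]
    refine zero_dvd_iff.1 ?_
    have h := map_dvd (aeval (R := ℚ) (f W)) (Polynomial.map_dvd (Int.castRingHom ℚ) hdvd)
    rwa [← Matrix.charpoly_map, show W.map (Int.castRingHom ℚ) = f W from (by rw [hf]; rfl),
      Matrix.aeval_self_charpoly] at h
  have h3 := (hsep.squarefree.squarefree_of_dvd h1).isRadical k _ h2
  apply hfinj
  rw [map_zero]
  have h4 : aeval (f W) (p.map (Int.castRingHom ℚ)) = 0 := aeval_eq_zero_of_dvd_aeval_eq_zero h3 (minpoly.aeval _ _)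
  rw [← h4, aeval_def, aeval_def, eval₂_map, hom_eval₂]
  congr 1
  exact RingHom.ext_int _ _

/-- A cyclotomic multiplicity bounded below by the dimension of a modular eigenspace. -/
theorem cyclotomic_pow_dvd_charpoly {r : ℕ} [Fact r.Prime] (W : Matrix (Fin l) (Fin l) ℤ) {m : ℕ} (hm : 0 < m)
    (hW : W ^ m = 1) (hrm : ¬ r ∣ m) {d : ℕ} (hd : ¬ r ∣ d) {z : ZMod r} (hz : IsPrimitiveRoot z d) :
    cyclotomic d ℤ ^ Module.finrank (ZMod r)
      ↥(Module.End.eigenspace (Matrix.toLin' ((Int.castRingHom (ZMod r)).mapMatrix W)) z) ∣ W.charpoly := by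
  classical
  have hd0 : 0 < d := Nat.pos_of_ne_zero fun h => hd (h ▸ dvd_zero r)
  obtain ⟨χ, hχ⟩ : ∃ χ, χ = W.charpoly := ⟨_, rfl⟩
  have hmon : χ.Monic := hχ ▸ W.charpoly_monic
  obtain ⟨Φ, hΦ⟩ : ∃ Φ, Φ = cyclotomic d ℤ := ⟨_, rfl⟩
  have hΦmon : Φ.Monic := hΦ ▸ cyclotomic.monic d ℤ
  have hfin : FiniteMultiplicity Φ χ := by
    refine finiteMultiplicity_of_degree_pos_of_monic ?_ hΦmon hmon.ne_zero
    rw [hΦ]; exact degree_cyclotomic_pos d ℤ hd0
  obtain ⟨g, hg, hgn⟩ := hfin.exists_eq_pow_mul_and_not_dvd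
  obtain ⟨k, hk⟩ : ∃ k, k = multiplicity Φ χ := ⟨_, rfl⟩
  rw [← hk] at hg
  have hgmon : g.Monic := (hΦmon.pow k).of_mul_monic_left (hg ▸ hmon)
  rw [← hχ, ← hΦ]
  refine Dvd.dvd.trans (pow_dvd_pow _ ?_) ⟨g, hg⟩
  refine le_trans (LinearMap.finrank_eigenspace_le _ z) ?_
  rw [Matrix.charpoly_toLin', show ((Int.castRingHom (ZMod r)).mapMatrix W).charpoly = χ.map (Int.castRingHom (ZMod r))
    from (W.charpoly_map _).trans (by rw [hχ]), hg, Polynomial.map_mul, Polynomial.map_pow]
  have hne : NeZero ((d : ℕ) : ZMod r) := ⟨fun h => hd ((ZMod.natCast_eq_zero_iff _ _).1 h)⟩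
  rw [rootMultiplicity_mul (mul_ne_zero (pow_ne_zero _ (hΦmon.map _).ne_zero) (hgmon.map _).ne_zero)]
  have hg0 : rootMultiplicity z (g.map (Int.castRingHom (ZMod r))) = 0 := by
    refine rootMultiplicity_eq_zero fun hroot => hgn ?_
    rw [IsRoot.def, eval_map] at hroot
    obtain ⟨u, hu⟩ := UniqueFactorizationMonoid.factors_prod hgmon.ne_zero
    obtain ⟨f, hf, hfz⟩ : ∃ f ∈ UniqueFactorizationMonoid.factors g, f.eval₂ (Int.castRingHom (ZMod r)) z = 0 := by
      rw [← hu, eval₂_mul, mul_eq_zero] at hroot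
      have hunit : IsUnit ((u : ℤ[X]).eval₂ (Int.castRingHom (ZMod r)) z) :=
        (u.map (eval₂RingHom (Int.castRingHom (ZMod r)) z : ℤ[X] →* ZMod r)).isUnit
      have h0 := hroot.resolve_right hunit.ne_zero
      rw [← coe_eval₂RingHom, map_multiset_prod, Multiset.prod_eq_zero_iff, Multiset.mem_map] at h0
      exact h0
    have hirr := UniqueFactorizationMonoid.irreducible_of_factor f hf
    obtain ⟨g', hg'⟩ := UniqueFactorizationMonoid.dvd_of_mem_factors hf
    have hlead : IsUnit f.leadingCoeff := by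
      refine IsUnit.of_mul_eq_one g'.leadingCoeff ?_
      rw [← leadingCoeff_mul, ← hg', hgmon.leadingCoeff]
    have hdeg : f.natDegree ≠ 0 := by
      intro h0
      obtain ⟨c, rfl⟩ : ∃ c, f = C c := ⟨_, eq_C_of_natDegree_eq_zero h0⟩
      rw [leadingCoeff_C] at hlead
      exact hirr.not_isUnit (isUnit_C.2 hlead)
    obtain ⟨x, hx⟩ : ∃ x : ℂ, aeval x f = 0 := by
      obtain ⟨x, hx⟩ := IsAlgClosed.exists_root (f.map (algebraMap ℤ ℂ)) (by
        rw [degree_map_eq_of_injective (algebraMap ℤ ℂ).injective_int]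
        intro h0
        exact hdeg (natDegree_eq_of_degree_eq_some h0))
      exact ⟨x, by rwa [IsRoot.def, eval_map] at hx⟩
    have hxm : x ^ m = 1 := pow_eq_one_of_charpoly_root hW (by
      rw [← hχ, hg, map_mul, hg', map_mul, hx, zero_mul, mul_zero])
    have hx0 : 0 < orderOf x := (isOfFinOrder_iff_pow_eq_one.2 ⟨m, hm, hxm⟩).orderOf_pos
    have hprim := IsPrimitiveRoot.orderOf x
    have hcd : cyclotomic (orderOf x) ℤ ∣ f := by
      rw [cyclotomic_eq_minpoly hprim hx0]
      exact minpoly.isIntegrallyClosed_dvd (hprim.isIntegral hx0) hx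
    have hassoc : Associated f (cyclotomic (orderOf x) ℤ) :=
      ((cyclotomic.irreducible hx0).associated_of_dvd hirr hcd).symm
    have hz0 : (cyclotomic (orderOf x) (ZMod r)).IsRoot z := by
      obtain ⟨w, hw⟩ := hassoc
      rw [IsRoot.def, ← map_cyclotomic_int, eval_map, ← hw, eval₂_mul, hfz, zero_mul]
    have : NeZero ((orderOf x : ℕ) : ZMod r) := ⟨fun h => hrm (((ZMod.natCast_eq_zero_iff _ r).1 h).trans
      (orderOf_dvd_of_pow_eq_one hxm))⟩
    rw [hΦ, ← (isRoot_cyclotomic_iff.1 hz0).unique hz]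
    exact hcd.trans ⟨g', hg'⟩
  rw [hg0, add_zero]
  have hsep : ((Φ.map (Int.castRingHom (ZMod r)))).Separable := by
    rw [hΦ, map_cyclotomic_int]; exact separable_cyclotomic d (ZMod r)
  have h1 := rootMultiplicity_le_one_of_separable hsep z
  have h2 : rootMultiplicity z (Φ.map (Int.castRingHom (ZMod r)) ^ k) =
      k * rootMultiplicity z (Φ.map (Int.castRingHom (ZMod r))) := by
    rw [← Polynomial.count_roots, ← Polynomial.count_roots, roots_pow, Multiset.count_nsmul]
  rw [h2]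
  exact le_trans (Nat.mul_le_mul_left k h1) (mul_one k).le

/-- The solutions of `W v = z v` modulo `r` form a space of order `r ^ b` with `Φ_d ^ b` dividing the
characteristic polynomial. -/
theorem exists_card_eigen {r : ℕ} [Fact r.Prime] (W : Matrix (Fin l) (Fin l) ℤ) {m : ℕ} (hm : 0 < m)
    (hW : W ^ m = 1) (hrm : ¬ r ∣ m) {d : ℕ} (hd : ¬ r ∣ d) {z : ZMod r} (hz : IsPrimitiveRoot z d) :
    ∃ b : ℕ, cyclotomic d ℤ ^ b ∣ W.charpoly ∧ b * d.totient ≤ l ∧
      Nat.card {v : Fin l → ZMod r // W.map (Int.cast : ℤ → ZMod r) *ᵥ v = z • v} = r ^ b := by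
  refine ⟨_, cyclotomic_pow_dvd_charpoly W hm hW hrm hd hz, ?_, ?_⟩
  · have h := natDegree_le_of_dvd (cyclotomic_pow_dvd_charpoly W hm hW hrm hd hz) W.charpoly_monic.ne_zero
    rwa [natDegree_pow, natDegree_cyclotomic, Matrix.charpoly_natDegree_eq_dim, Fintype.card_fin] at h
  · rw [show r ^ _ = Nat.card (ZMod r) ^ _ from by rw [Nat.card_zmod], ← Module.natCard_eq_pow_finrank]
    refine Nat.card_congr (Equiv.subtypeEquivRight fun v => ?_)
    rw [Module.End.mem_eigenspace_iff, Matrix.toLin'_apply]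
    rfl

end CfsgLib.Known.Homocyclic
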