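import Mathlib
import Cfsg.Agent.Lib.Known.Homocyclic.Eigen

/-!
# Integral matrices of rank one attached to simple eigenvalues
-/

set_option autoImplicit false

namespace CfsgLib.Known.Homocyclic

open Polynomial
open scoped Matrix

variable {l : ℕ}

/-- A cofactor of degree one of a cyclotomic power in the characteristic polynomial of a matrix of finite order. -/
theorem exists_linear_cofactor {W : Matrix (Fin l) (Fin l) ℤ} {m : ℕ} (hm : 0 < m) (hW : W ^ m = 1) {Φ : ℤ[X]}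
    (hΦ : Φ.Monic) {n : ℕ} (hdeg : n * Φ.natDegree + 1 = l) (hdvd : Φ ^ n ∣ W.charpoly) :
    ∃ ε : ℤ, (ε = 1 ∨ ε = -1) ∧ W.charpoly = Φ ^ n * (X - C ε) := by
  obtain ⟨g, hg⟩ := hdvd
  have hgm : g.Monic := (hΦ.pow n).of_mul_monic_left (hg ▸ W.charpoly_monic)
  have hgd : g.natDegree = 1 := by
    have h := congrArg natDegree hg
    rw [(hΦ.pow n).natDegree_mul hgm, natDegree_pow, Matrix.charpoly_natDegree_eq_dim, Fintype.card_fin] at h
    omega
  obtain ⟨ε, hε⟩ : ∃ ε : ℤ, g = X - C ε := ⟨-g.coeff 0, by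
    rw [map_neg, sub_neg_eq_add]; exact hgm.eq_X_add_C hgd⟩
  subst hε
  refine ⟨ε, ?_, hg⟩
  have hroot : aeval ((ε : ℤ) : ℂ) W.charpoly = 0 := by
    rw [hg, map_mul, map_sub (aeval _), aeval_X, aeval_C]
    simp
  have h1 : ε ^ m = 1 := by exact_mod_cast pow_eq_one_of_charpoly_root hW hroot
  exact Int.isUnit_iff.1 (IsUnit.of_pow_eq_one h1 hm.ne')

/-- A matrix whose columns are eigenvectors for a simple eigenvalue has rank at most one. -/
theorem minors_eq_zero {W M : Matrix (Fin l) (Fin l) ℤ} {ε : ℤ} {p : ℤ[X]} (hp : p.eval ε ≠ 0)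
    (hW : W.charpoly = p * (X - C ε)) (hM : W * M = ε • M) (i j k t : Fin l) :
    M i j * M k t = M i t * M k j := by
  classical
  obtain ⟨f, hf⟩ : ∃ f, f = Matrix.toLin' (W.map (Int.castRingHom ℚ)) := ⟨_, rfl⟩
  have h1 : Module.finrank ℚ ↥(Module.End.eigenspace f (ε : ℚ)) ≤ 1 := by
    refine le_trans (LinearMap.finrank_eigenspace_le f _) ?_
    rw [hf, Matrix.charpoly_toLin', Matrix.charpoly_map, hW, Polynomial.map_mul, Polynomial.map_sub, map_X, map_C,
      eq_intCast]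
    have hne : (p.map (Int.castRingHom ℚ)).eval (ε : ℚ) ≠ 0 := by
      rw [show ((ε : ℚ)) = Int.castRingHom ℚ ε from rfl, eval_map, eval₂_at_apply]
      simpa using hp
    have hp0 : p.map (Int.castRingHom ℚ) ≠ 0 := fun h => hne (by rw [h, eval_zero])
    rw [rootMultiplicity_mul (mul_ne_zero hp0 (X_sub_C_ne_zero _)), rootMultiplicity_eq_zero hne,
      rootMultiplicity_X_sub_C_self]
  obtain ⟨b, hb⟩ := finrank_le_one_iff.1 h1
  have hcol : ∀ c : Fin l, ∃ a : ℚ, ∀ x, (M x c : ℚ) = a * (b : Fin l → ℚ) x := by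
    intro c
    obtain ⟨a, ha⟩ := hb ⟨fun x => (M x c : ℚ), by
      rw [Module.End.mem_eigenspace_iff, hf, Matrix.toLin'_apply]
      funext x
      have h := congrFun (congrFun hM x) c
      simp only [Matrix.mul_apply, Matrix.smul_apply, smul_eq_mul] at h
      simp only [Matrix.mulVec, dotProduct, Matrix.map_apply, eq_intCast, Pi.smul_apply, smul_eq_mul]
      exact_mod_cast h⟩
    exact ⟨a, fun x => (congrFun (congrArg Subtype.val ha) x).symm⟩
  obtain ⟨aj, hj⟩ := hcol j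
  obtain ⟨at', ht⟩ := hcol t
  have : ((M i j * M k t : ℤ) : ℚ) = ((M i t * M k j : ℤ) : ℚ) := by
    push_cast
    rw [hj, hj, ht, ht]; ring
  exact_mod_cast this

/-- A non-zero integral matrix of rank one is the product of a column and a primitive row. -/
theorem exists_rank_one {M : Matrix (Fin l) (Fin l) ℤ} (hmin : ∀ i j k t, M i j * M k t = M i t * M k j)
    (hM : M ≠ 0) :
    ∃ f v u : Fin l → ℤ, (∀ i j, M i j = f i * v j) ∧ ∑ j, u j * v j = 1 ∧ ∃ i, f i ≠ 0 := by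
  classical
  obtain ⟨i0, hi0⟩ := Function.ne_iff.1 hM
  obtain ⟨j0, hj0⟩ := Function.ne_iff.1 hi0
  have hne : (Finset.univ : Finset (Fin l)).Nonempty := ⟨j0, Finset.mem_univ _⟩
  obtain ⟨v, hv, hv1⟩ := Finset.extract_gcd (M i0) hne
  obtain ⟨g, hg⟩ : ∃ g, g = Finset.univ.gcd (M i0) := ⟨_, rfl⟩
  simp only [← hg, Finset.mem_univ, true_implies] at hv
  obtain ⟨u, hu⟩ := Finset.gcd_eq_sum_mul (Finset.univ : Finset (Fin l)) v
  rw [hv1] at hu
  have hu1 : ∑ j, u j * v j = 1 := by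
    rw [hu]; exact Finset.sum_congr rfl fun x _ => mul_comm _ _
  have hg0 : g ≠ 0 := fun h => hj0 (by simpa [h] using hv j0)
  have hf : ∀ i j, M i j = (∑ t, u t * M i t) * v j := by
    intro i j
    rw [Finset.sum_mul]
    conv_lhs => rw [← one_mul (M i j), ← hu1, Finset.sum_mul]
    refine Finset.sum_congr rfl fun t _ => ?_
    have h := hmin i j i0 t
    rw [hv t, hv j] at h
    have h2 : g * (v t * M i j) = g * (v j * M i t) := by linear_combination h
    have h3 := mul_left_cancel₀ hg0 h2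
    linear_combination u t * h3
  refine ⟨fun i => ∑ t, u t * M i t, v, u, hf, hu1, i0, fun h => hj0 ?_⟩
  simp only [Matrix.zero_apply]
  have h' : ∑ t, u t * M i0 t = 0 := h
  rw [hf i0 j0, h', zero_mul]

/-- Symmetry properties of a self-adjoint rank one matrix with square twice itself. -/
theorem rank_one_form {B M : Matrix (Fin l) (Fin l) ℤ} {f v : Fin l → ℤ} (hfv : ∀ i j, M i j = f i * v j)
    {i0 : Fin l} (hi0 : f i0 ≠ 0) (hv0 : v ≠ 0) (hsym : (M * B)ᵀ = M * B) (hsq : M * M = 2 • M)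
    (hpos : ∀ i, 0 ≤ (M * B) i i) :
    (∀ i j, (M * B) i j = f i * (v ᵥ* B) j) ∧ (∀ j, 2 * (v ᵥ* B) j = (v ⬝ᵥ (v ᵥ* B)) * f j) ∧
      0 ≤ v ⬝ᵥ (v ᵥ* B) := by
  have hS : ∀ i j, (M * B) i j = f i * (v ᵥ* B) j := fun i j => by
    simp only [Matrix.mul_apply, Matrix.vecMul, dotProduct, Finset.mul_sum, hfv, mul_assoc]
  obtain ⟨j0, hj0⟩ := Function.ne_iff.1 hv0
  have h2 : ∑ t, v t * f t = 2 := by
    have h := congrFun (congrFun hsq i0) j0
    simp only [Matrix.mul_apply, Matrix.smul_apply, hfv, nsmul_eq_mul, Nat.cast_ofNat] at h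
    have h3 : (∑ t, v t * f t) * (f i0 * v j0) = 2 * (f i0 * v j0) := by
      rw [← h, Finset.sum_mul]
      exact Finset.sum_congr rfl fun t _ => by ring
    exact mul_right_cancel₀ (mul_ne_zero hi0 (by simpa using hj0)) h3
  have hflip : ∀ i j, f i * (v ᵥ* B) j = f j * (v ᵥ* B) i := fun i j => by
    rw [← hS, ← hS]; exact congrFun (congrFun hsym.symm i) j
  have hw : ∀ j, 2 * (v ᵥ* B) j = (v ⬝ᵥ (v ᵥ* B)) * f j := fun j => by
    rw [← h2, Finset.sum_mul, dotProduct, Finset.sum_mul]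
    exact Finset.sum_congr rfl fun i _ => by linear_combination v i * hflip i j
  refine ⟨hS, hw, ?_⟩
  have h4 := hpos i0
  rw [hS] at h4
  have h5 : 0 ≤ (v ⬝ᵥ (v ᵥ* B)) * f i0 ^ 2 := by
    have e : (v ⬝ᵥ (v ᵥ* B)) * f i0 ^ 2 = 2 * (f i0 * (v ᵥ* B) i0) := by linear_combination -(f i0) * hw i0
    rw [e]
    positivity
  exact nonneg_of_mul_nonneg_left h5 (by positivity)

end CfsgLib.Known.Homocyclic
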