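import Cfsg.Agent.Lib.Known.Homocyclic.Main
import Cfsg.Agent.Lib.Known.Homocyclic.RankOne
import Cfsg.Agent.Lib.Lie.Rel.OrderData

/-!
# The eigenspace bounds for the seven tabulated Weyl groups
-/

set_option autoImplicit false
set_option maxHeartbeats 1600000

namespace CfsgLib.Known.Homocyclic

open Cfsg.Lie (ChevalleyDatum chevG2 chevB2 chevD4 chevF4 chevE6 chevE7 chevE8)
open CfsgLib.Lie.Chev
open CfsgLib.Known.CyclicTorus (cvec castV castM BilOK)
open scoped Matrix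
open Polynomial

theorem rankOK_of_totient {D : ChevalleyDatum} {X : Aux} {degs exc : List ℕ} (hmax : ∀ e ∈ degs, 0 < e ∧ e ≤ 30)
    (hchk : ∀ d < 31, (∃ e ∈ degs, d ∣ e) → d ∈ exc ∨
      D.rank < ((degs.filter fun e => d ∣ e).length + 1) * d.totient)
    (hexc : ∀ d ∈ exc, ∀ (b : ℕ) (W : Matrix (Fin D.rank) (Fin D.rank) ℤ), WeylLike D X W →
      (∃ m, 0 < m ∧ W ^ m = 1) → cyclotomic d ℤ ^ b ∣ W.charpoly → b * d.totient ≤ D.rank →
        b ≤ (degs.filter fun e => d ∣ e).length) : RankOK D X degs := by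
  intro d b W hd hW hm hdvd hb
  obtain ⟨e, he, hde⟩ := hd
  rcases hchk d (by have := Nat.le_of_dvd (hmax e he).1 hde; have := (hmax e he).2; omega) ⟨e, he, hde⟩ with h | h
  · exact hexc d h b W hW hm hdvd hb
  · by_contra hlt
    have := Nat.mul_le_mul_right d.totient (Nat.lt_of_not_le hlt)
    simp only [Nat.succ_eq_add_one] at this
    omega

theorem rankOK_G2 : RankOK chevG2 auxG2 [2, 6] :=
  rankOK_of_totient (exc := []) (by decide) (by decide +kernel) (fun _ h => absurd h List.not_mem_nil)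

theorem rankOK_B2 : RankOK chevB2 auxB2 [2, 4] :=
  rankOK_of_totient (exc := []) (by decide) (by decide +kernel) (fun _ h => absurd h List.not_mem_nil)

theorem rankOK_F4 : RankOK chevF4 auxF4 [2, 6, 8, 12] :=
  rankOK_of_totient (exc := []) (by decide) (by decide +kernel) (fun _ h => absurd h List.not_mem_nil)

theorem rankOK_E8 : RankOK chevE8 auxE8 [2, 8, 12, 14, 18, 20, 24, 30] :=
  rankOK_of_totient (exc := []) (by decide) (by decide +kernel) (fun _ h => absurd h List.not_mem_nil)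

/-- A polynomial annihilating a matrix which fixes a class modulo `p` vanishes at one modulo `p`. -/
theorem castV_aeval {l : ℕ} {W : Matrix (Fin l) (Fin l) ℤ} {p : ℕ} {c : Fin l → ℤ}
    (hc : castV (ZMod p) (c ᵥ* W) = castV (ZMod p) c) (g : ℤ[X]) :
    castV (ZMod p) (c ᵥ* aeval W g) = ((g.eval 1 : ℤ) : ZMod p) • castV (ZMod p) c := by
  induction g using Polynomial.induction_on with
  | C a =>
    funext j
    simp [castV, mul_comm]
  | add g h ihg ihh =>
    rw [map_add, Matrix.vecMul_add, eval_add, Int.cast_add, add_smul, ← ihg, ← ihh]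
    funext j
    simp [castV]
  | monomial n a ih =>
    rw [pow_succ, ← mul_assoc, map_mul (aeval W) (C a * X ^ n), aeval_X, ← Matrix.vecMul_vecMul, castV_vecMul, ih,
      Matrix.smul_vecMul, ← castV_vecMul, hc]
    simp

theorem cyclotomic_eval_one_values : (cyclotomic 2 ℤ).eval 1 = 2 ∧ (cyclotomic 3 ℤ).eval 1 = 3 ∧
    (cyclotomic 4 ℤ).eval 1 = 2 ∧ (cyclotomic 6 ℤ).eval 1 = 1 := by
  have : Fact (Nat.Prime 2) := ⟨Nat.prime_two⟩
  have : Fact (Nat.Prime 3) := ⟨Nat.prime_three⟩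
  refine ⟨eval_one_cyclotomic_prime, eval_one_cyclotomic_prime, ?_, ?_⟩
  · exact (show (4 : ℕ) = 2 ^ (1 + 1) from rfl) ▸ eval_one_cyclotomic_prime_pow 1
  · rw [cyclotomic_six]; simp

theorem cyclotomic_four : cyclotomic 4 ℤ = X ^ 2 + 1 := by
  rw [show (4 : ℕ) = 2 ^ (1 + 1) from rfl, cyclotomic_prime_pow_eq_geom_sum Nat.prime_two]
  simp [Finset.sum_range_succ, add_comm]

/-- A power of a cyclotomic polynomial filling the characteristic polynomial is excluded by a fixed class. -/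
theorem not_full {l : ℕ} {W : Matrix (Fin l) (Fin l) ℤ} {m : ℕ} (hm : 0 < m) (hW : W ^ m = 1) {p : ℕ}
    {c : Fin l → ℤ} (hc : castV (ZMod p) (c ᵥ* W) = castV (ZMod p) c) {d b : ℕ} (hb : b * d.totient = l)
    (hdvd : cyclotomic d ℤ ^ b ∣ W.charpoly) {z : ℤ} (hz : (cyclotomic d ℤ).eval 1 = z)
    (hne : (z : ZMod p) • castV (ZMod p) c ≠ 0) : False := by
  have h1 : cyclotomic d ℤ ^ b = W.charpoly :=
    (eq_of_monic_of_dvd_of_natDegree_le ((cyclotomic.monic d ℤ).pow b) W.charpoly_monic hdvd (by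
      rw [Matrix.charpoly_natDegree_eq_dim, Fintype.card_fin, natDegree_pow, natDegree_cyclotomic, hb])).symm
  have h2 := aeval_eq_zero_of_dvd_pow hm hW (p := cyclotomic d ℤ) (k := b) (by rw [h1])
  have h3 := castV_aeval hc (cyclotomic d ℤ)
  rw [h2, Matrix.vecMul_zero, hz] at h3
  refine hne (h3.symm.trans ?_)
  funext j
  simp [castV]

/-- The class modulo two of `D₄`. -/
def cD4 : Fin 4 → ℤ := fun i => [1, 0, 1, 0].getD i 0

theorem classD4 : ClassOK chevD4 auxD4 2 cD4 := by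
  unfold ClassOK
  decide +kernel

theorem rankOK_D4 : RankOK chevD4 auxD4 [2, 4, 4, 6] := by
  refine rankOK_of_totient (exc := [3, 6]) (by decide) (by decide +kernel) fun d hd b W hW hm hdvd hb => ?_
  obtain ⟨m, hm, hWm⟩ := hm
  have hc := hW.cls 2 cD4 classD4
  change Matrix (Fin 4) (Fin 4) ℤ at W
  change b * d.totient ≤ 4 at hb
  simp only [List.mem_cons, List.not_mem_nil, or_false] at hd
  rcases hd with rfl | rfl
  · rw [show Nat.totient 3 = 2 from by decide] at hb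
    show b ≤ 1
    by_contra h
    exact not_full (l := 4) hm hWm hc (b := b) (by rw [show Nat.totient 3 = 2 from by decide]; omega) hdvd
      cyclotomic_eval_one_values.2.1 (by decide +kernel)
  · rw [show Nat.totient 6 = 2 from by decide] at hb
    show b ≤ 1
    by_contra h
    exact not_full (l := 4) hm hWm hc (b := b) (by rw [show Nat.totient 6 = 2 from by decide]; omega) hdvd
      cyclotomic_eval_one_values.2.2.2 (by decide +kernel)

/-- The class modulo three of `E₆`. -/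
def cE6 : Fin 6 → ℤ := fun i => [1, 0, 2, 0, 1, 2].getD i 0

theorem classE6 : ClassOK chevE6 auxE6 3 cE6 := by
  unfold ClassOK
  decide +kernel

/-- The form of `E₆`. -/
def bE6 : Matrix (Fin 6) (Fin 6) ℤ := Matrix.of fun i j => (cartE6.getD i []).getD j 0

/-- Three times the inverse of the form of `E₆`. -/
def aE6 : Matrix (Fin 6) (Fin 6) ℤ := Matrix.of fun i j =>
  (([[4, 3, 5, 6, 4, 2], [3, 6, 6, 9, 6, 3], [5, 6, 10, 12, 8, 4], [6, 9, 12, 18, 12, 6], [4, 6, 8, 12, 10, 5],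
    [2, 3, 4, 6, 5, 4]] : List (List ℤ)).getD i []).getD j 0

/-- The coordinates of a root of `E_6`. -/
def vE6 (s : ℕ) : Fin 6 → ℤ := cvec chevE6 auxE6 s

theorem bilE6 : BilOK chevE6 auxE6 bE6 := by
  show ∀ k i j : Fin 6, vE6 (auxE6.w (k : ℕ) (chevE6.simple (i : ℕ))) ⬝ᵥ bE6 *ᵥ vE6 (auxE6.w (k : ℕ) (chevE6.simple (j : ℕ))) = (cartE6.getD i []).getD j 0
  decide +kernel

theorem boundE6 : ∀ (s : Fin 72) (i : Fin 6), -2 ≤ (vE6 s ᵥ* bE6) i := by decide +kernel

theorem simpleE6 : ∀ i : Fin 6, ∃ s : Fin 72, vE6 s = Pi.single i 1 := by decide +kernel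

theorem vecMul_bE6 (v : Fin 6 → ℤ) :
    v ᵥ* bE6 = ![2 * v 0 - v 2, 2 * v 1 - v 3, -v 0 + 2 * v 2 - v 3, -v 1 - v 2 + 2 * v 3 - v 4,
      -v 3 + 2 * v 4 - v 5, -v 4 + 2 * v 5] := by
  funext j
  fin_cases j <;> simp [Matrix.vecMul, dotProduct, bE6, cartE6, Fin.sum_univ_succ] <;> ring

theorem no_five_E6 (W : Matrix (Fin 6) (Fin 6) ℤ) (hroots : ∀ s : Fin 72, ∃ s' : Fin 72,
      vE6 s ᵥ* W = vE6 s')
    (hB : W * bE6 * Wᵀ = bE6) (hc : castV (ZMod 3) (cE6 ᵥ* W) = castV (ZMod 3) cE6) {m : ℕ} (hm : 0 < m)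
    (hWm : W ^ m = 1) (hdvd : cyclotomic 2 ℤ ^ 5 ∣ W.charpoly) : False := by
  obtain ⟨ε, hε, hχ⟩ := exists_linear_cofactor hm hWm (cyclotomic.monic 2 ℤ) (n := 5)
    (by rw [natDegree_cyclotomic, show Nat.totient 2 = 1 from by decide]) hdvd
  rcases hε with rfl | rfl
  swap
  · refine not_full (l := 6) hm hWm hc (d := 2) (b := 6) (by decide) ?_ cyclotomic_eval_one_values.1
      (by decide +kernel)
    rw [hχ, pow_succ _ 5, cyclotomic_two]
    exact dvd_of_eq (by simp)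
  have h0 := aeval_eq_zero_of_dvd_pow hm hWm (p := cyclotomic 2 ℤ * (X - C 1)) (k := 5) (by
    rw [hχ, mul_pow]; exact mul_dvd_mul_left _ (dvd_pow_self _ (by decide)))
  rw [cyclotomic_two, map_one, map_mul, map_add, map_sub, aeval_X, map_one] at h0
  have hW2 : W * W = 1 := by
    rw [← sub_eq_zero, ← h0]; noncomm_ring
  obtain ⟨M, hM⟩ : ∃ M, M = W + 1 := ⟨_, rfl⟩
  have hWM : W * M = (1 : ℤ) • M := by rw [one_smul, hM, mul_add, hW2, mul_one, add_comm]
  have hcM : castV (ZMod 3) (cE6 ᵥ* M) = (2 : ZMod 3) • castV (ZMod 3) cE6 := by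
    have h := castV_aeval hc (X + 1)
    rw [map_add, aeval_X, map_one, ← hM] at h
    rw [h]
    norm_num
  have hM0 : M ≠ 0 := by
    intro h
    rw [h, Matrix.vecMul_zero] at hcM
    exact absurd (congrFun hcM 0) (by decide +kernel)
  have hmin := minors_eq_zero (p := cyclotomic 2 ℤ ^ 5) (by simp [cyclotomic_two]) hχ hWM
  obtain ⟨f, v, u, hfv, huv, i0, hi0⟩ := exists_rank_one hmin hM0
  have hsymB : bE6ᵀ = bE6 := by decide +kernel
  have hsym : (M * bE6)ᵀ = M * bE6 := by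
    have h1 : W * bE6 = bE6 * Wᵀ := by
      calc W * bE6 = W * (W * bE6 * Wᵀ) := by rw [hB]
        _ = bE6 * Wᵀ := by rw [← Matrix.mul_assoc, ← Matrix.mul_assoc, hW2, Matrix.one_mul]
    rw [Matrix.transpose_mul, hsymB, hM, Matrix.transpose_add, Matrix.transpose_one, Matrix.mul_add, Matrix.mul_one,
      ← h1, add_mul, one_mul]
  have hsq : M * M = 2 • M := by
    rw [hM, add_mul, mul_add, hW2, one_mul, mul_one, two_nsmul]; abel
  have hpos : ∀ i, 0 ≤ (M * bE6) i i := by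
    intro i
    obtain ⟨s, hs⟩ := simpleE6 i
    obtain ⟨s', hs'⟩ := hroots s
    rw [hs, Matrix.single_one_vecMul] at hs'
    rw [hM, add_mul, one_mul, Matrix.add_apply]
    have h1 : (W * bE6) i i = (vE6 s' ᵥ* bE6) i := by
      rw [Matrix.mul_apply, ← hs']; rfl
    have h2 : bE6 i i = 2 := (by decide +kernel : ∀ i : Fin 6, bE6 i i = 2) i
    have := boundE6 s' i
    rw [h1, h2]
    linarith
  obtain ⟨hS, hw, hn⟩ := rank_one_form hfv hi0 (fun h => by simp [h] at huv) hsym hsq hpos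
  -- the row is congruent to a multiple of the class
  obtain ⟨t, ht⟩ : ∃ t : ZMod 3, t = ∑ i, ((cE6 i * f i : ℤ) : ZMod 3) := ⟨_, rfl⟩
  have hv : ∀ j, t * (v j : ZMod 3) = 2 * (cE6 j : ZMod 3) := by
    intro j
    have h := congrFun hcM j
    simp only [castV, Matrix.vecMul, dotProduct, hfv, Pi.smul_apply, smul_eq_mul, Int.cast_sum, Int.cast_mul] at h
    rw [ht, Finset.sum_mul, ← h]
    exact Finset.sum_congr rfl fun i _ => by push_cast; ring
  obtain ⟨s, hs, hvs⟩ : ∃ s : ℤ, (s = 1 ∨ s = 2) ∧ ∀ j, (3 : ℤ) ∣ v j - s * cE6 j := by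
    have hcases : ∀ t : ZMod 3, ∀ a c : ZMod 3, t * a = 2 * c →
        (t = 1 → a = 2 * c) ∧ (t = 2 → a = 1 * c) ∧ (t = 0 → c = 0) := by decide +kernel
    rcases (by decide +kernel : ∀ t : ZMod 3, t = 0 ∨ t = 1 ∨ t = 2) t with h | h | h
    · exact absurd ((hcases t _ _ (hv 0)).2.2 h) (by decide +kernel)
    · refine ⟨2, Or.inr rfl, fun j => (ZMod.intCast_zmod_eq_zero_iff_dvd _ 3).1 ?_⟩
      rw [Int.cast_sub, Int.cast_mul, sub_eq_zero]
      exact (hcases t _ _ (hv j)).1 h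
    · refine ⟨1, Or.inl rfl, fun j => (ZMod.intCast_zmod_eq_zero_iff_dvd _ 3).1 ?_⟩
      rw [Int.cast_sub, Int.cast_mul, sub_eq_zero, Int.cast_one]
      exact (hcases t _ _ (hv j)).2.1 h
  choose x hx using hvs
  have e0 : v 0 = s + 3 * x 0 := by have := hx 0; simp [cE6] at this; linarith
  have e1 : v 1 = 3 * x 1 := by have := hx 1; simp [cE6] at this; linarith
  have e2 : v 2 = 2 * s + 3 * x 2 := by have := hx 2; simp [cE6] at this; linarith
  have e3 : v 3 = 3 * x 3 := by have := hx 3; simp [cE6] at this; linarith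
  have e4 : v 4 = s + 3 * x 4 := by have := hx 4; simp [cE6] at this; linarith
  have e5 : v 5 = 2 * s + 3 * x 5 := by have := hx 5; simp [cE6] at this; linarith
  obtain ⟨k, hk, hk9⟩ : ∃ k : ℤ, v ⬝ᵥ (v ᵥ* bE6) = 2 * k ∧ k % 9 = 6 := by
    refine ⟨6 * s * s + 9 * (x 0 * x 0 + x 1 * x 1 + x 2 * x 2 + x 3 * x 3 + x 4 * x 4 + x 5 * x 5 - x 0 * x 2
      - x 1 * x 3 - x 2 * x 3 - x 3 * x 4 - x 4 * x 5) + 9 * s * (x 2 - x 3 + x 5), ?_, ?_⟩
    · simp [vecMul_bE6, dotProduct, Fin.sum_univ_succ, e0, e1, e2, e3, e4, e5]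
      ring
    · rcases hs with rfl | rfl <;> omega
  have hkf : ∀ j, (v ᵥ* bE6) j = k * f j := fun j => by
    have := hw j
    rw [hk] at this
    linarith
  have hadj : bE6 * aE6 = 3 • (1 : Matrix (Fin 6) (Fin 6) ℤ) := by decide +kernel
  obtain ⟨k', hk'⟩ : ∃ k', k = 3 * k' := ⟨k / 3, by omega⟩
  have hvk : ∀ j, v j = k' * (f ᵥ* aE6) j := by
    intro j
    have h := congrFun (congrArg (v ᵥ* ·) hadj) j
    simp only [← Matrix.vecMul_vecMul] at h
    rw [show v ᵥ* bE6 = k • f from funext hkf, Matrix.smul_vecMul, Matrix.vecMul_smul, Matrix.vecMul_one] at h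
    simp only [Pi.smul_apply, smul_eq_mul, nsmul_eq_mul, Nat.cast_ofNat, hk'] at h
    linarith
  have h1 : IsUnit k' := isUnit_of_dvd_one (huv ▸ Finset.dvd_sum fun j _ => ⟨u j * (f ᵥ* aE6) j, by rw [hvk]; ring⟩)
  rcases Int.isUnit_iff.1 h1 with h | h <;> omega

theorem rankOK_E6 : RankOK chevE6 auxE6 [2, 5, 6, 8, 9, 12] := by
  refine rankOK_of_totient (exc := [2, 4, 6]) (by decide) (by decide +kernel) fun d hd b W hW hm hdvd hb => ?_
  obtain ⟨m, hm, hWm⟩ := hm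
  have hc := hW.cls 3 cE6 classE6
  have hB := hW.form _ bilE6
  have hroots := hW.roots
  change Matrix (Fin 6) (Fin 6) ℤ at W
  change b * d.totient ≤ 6 at hb
  simp only [List.mem_cons, List.not_mem_nil, or_false] at hd
  rcases hd with rfl | rfl | rfl
  · rw [show Nat.totient 2 = 1 from by decide] at hb
    show b ≤ 4
    by_contra h
    exact no_five_E6 W hroots hB hc hm hWm ((pow_dvd_pow _ (by omega : 5 ≤ b)).trans hdvd)
  · rw [show Nat.totient 4 = 2 from by decide] at hb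
    show b ≤ 2
    by_contra h
    exact not_full (l := 6) hm hWm hc (b := b) (by rw [show Nat.totient 4 = 2 from by decide]; omega) hdvd
      cyclotomic_eval_one_values.2.2.1 (by decide +kernel)
  · rw [show Nat.totient 6 = 2 from by decide] at hb
    show b ≤ 2
    by_contra h
    exact not_full (l := 6) hm hWm hc (b := b) (by rw [show Nat.totient 6 = 2 from by decide]; omega) hdvd
      cyclotomic_eval_one_values.2.2.2 (by decide +kernel)

/-- The form of `E₇`. -/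
def bE7 : Matrix (Fin 7) (Fin 7) ℤ := Matrix.of fun i j => (cartE7.getD i []).getD j 0

/-- Twice the inverse of the form of `E₇`. -/
def aE7 : Matrix (Fin 7) (Fin 7) ℤ := Matrix.of fun i j =>
  (([[4, 4, 6, 8, 6, 4, 2], [4, 7, 8, 12, 9, 6, 3], [6, 8, 12, 16, 12, 8, 4], [8, 12, 16, 24, 18, 12, 6],
    [6, 9, 12, 18, 15, 10, 5], [4, 6, 8, 12, 10, 8, 4], [2, 3, 4, 6, 5, 4, 3]] : List (List ℤ)).getD i []).getD j 0

/-- The coordinates of a root of `E_7`. -/
def vE7 (s : ℕ) : Fin 7 → ℤ := cvec chevE7 auxE7 s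

theorem bilE7 : BilOK chevE7 auxE7 bE7 := by
  show ∀ k i j : Fin 7, vE7 (auxE7.w (k : ℕ) (chevE7.simple (i : ℕ))) ⬝ᵥ bE7 *ᵥ vE7 (auxE7.w (k : ℕ) (chevE7.simple (j : ℕ))) = (cartE7.getD i []).getD j 0
  decide +kernel

theorem boundE7 : ∀ (s : Fin 126) (i : Fin 7), -2 ≤ (vE7 s ᵥ* bE7) i := by decide +kernel

theorem simpleE7 : ∀ i : Fin 7, ∃ s : Fin 126, vE7 s = Pi.single i 1 := by decide +kernel

theorem vecMul_bE7 (v : Fin 7 → ℤ) :
    v ᵥ* bE7 = ![2 * v 0 - v 2, 2 * v 1 - v 3, -v 0 + 2 * v 2 - v 3, -v 1 - v 2 + 2 * v 3 - v 4,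
      -v 3 + 2 * v 4 - v 5, -v 4 + 2 * v 5 - v 6, -v 5 + 2 * v 6] := by
  funext j
  fin_cases j <;> simp [Matrix.vecMul, dotProduct, bE7, cartE7, Fin.sum_univ_succ] <;> ring

set_option maxRecDepth 4000 in
/-- No automorphism of the root lattice of `E₇` is an isometry squaring to minus the identity off a line. -/
theorem no_three_E7_core (W : Matrix (Fin 7) (Fin 7) ℤ) (hroots : ∀ s : Fin 126, ∃ s' : Fin 126,
      vE7 s ᵥ* W = vE7 s')
    (hB : W * bE7 * Wᵀ = bE7) {ε : ℤ} (hε : ε = 1 ∨ ε = -1) (h0 : (W ^ 2 + 1) * W = ε • (W ^ 2 + 1))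
    (hminors : ∀ M : Matrix (Fin 7) (Fin 7) ℤ, M = W ^ 2 + 1 → W * M = ε • M →
      ∀ i j k t, M i j * M k t = M i t * M k j) : False := by
  have hε2 : ε * ε = 1 := by rcases hε with rfl | rfl <;> ring
  obtain ⟨M, hM⟩ : ∃ M, M = W ^ 2 + 1 := ⟨_, rfl⟩
  rw [← hM] at h0
  have hWM : W * M = ε • M := by
    rw [← h0, hM]; noncomm_ring
  have hW3 : W * W ^ 2 + W = ε • M := by rw [← hWM, hM]; noncomm_ring
  have hW4 : W ^ 4 = 1 := by
    have h1 : W ^ 2 * M = M := by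
      rw [sq, Matrix.mul_assoc, hWM, Matrix.mul_smul, hWM, smul_smul, hε2, one_smul]
    have h2 : W ^ 4 + W ^ 2 = W ^ 2 + 1 := by
      calc W ^ 4 + W ^ 2 = W ^ 2 * M := by rw [hM]; noncomm_ring
        _ = W ^ 2 + 1 := by rw [h1, hM]
    rw [add_comm (W ^ 4)] at h2
    exact add_left_cancel h2
  have hM0 : M ≠ 0 := by
    intro h
    rw [hM, add_eq_zero_iff_eq_neg] at h
    have h2 := congrArg Matrix.det h
    rw [Matrix.det_pow, Matrix.det_neg, Matrix.det_one, Fintype.card_fin] at h2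
    generalize W.det = z at h2
    have h3 : z ^ 2 = -1 := by rw [h2]; norm_num
    exact (sq_nonneg z).not_gt (h3 ▸ by norm_num)
  have hmin := hminors M hM hWM
  obtain ⟨f, v, u, hfv, huv, i0, hi0⟩ := exists_rank_one hmin hM0
  have hsymB : bE7ᵀ = bE7 := by decide +kernel
  have hB2 : W ^ 2 * bE7 * (W ^ 2)ᵀ = bE7 := by
    rw [sq, Matrix.transpose_mul]
    calc W * W * bE7 * (Wᵀ * Wᵀ) = W * (W * bE7 * Wᵀ) * Wᵀ := by simp only [Matrix.mul_assoc]
      _ = bE7 := by rw [hB, hB]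
  have hsym : (M * bE7)ᵀ = M * bE7 := by
    have h1 : W ^ 2 * bE7 = bE7 * (W ^ 2)ᵀ := by
      calc W ^ 2 * bE7 = W ^ 2 * (W ^ 2 * bE7 * (W ^ 2)ᵀ) := by rw [hB2]
        _ = bE7 * (W ^ 2)ᵀ := by rw [← Matrix.mul_assoc, ← Matrix.mul_assoc, ← pow_add, hW4, Matrix.one_mul]
    rw [Matrix.transpose_mul, hsymB, hM, Matrix.transpose_add, Matrix.transpose_one, Matrix.mul_add, Matrix.mul_one,
      ← h1, add_mul, one_mul]
  have hsq : M * M = 2 • M := by
    calc M * M = W ^ 4 + 2 • W ^ 2 + 1 := by rw [hM]; noncomm_ring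
      _ = 2 • M := by rw [hW4, hM]; noncomm_ring
  have hpos : ∀ i, 0 ≤ (M * bE7) i i := by
    intro i
    obtain ⟨s, hs⟩ := simpleE7 i
    obtain ⟨s', hs'⟩ := hroots s
    obtain ⟨s'', hs''⟩ := hroots s'
    rw [← hs', Matrix.vecMul_vecMul, ← sq, hs, Matrix.single_one_vecMul] at hs''
    rw [hM, add_mul, one_mul, Matrix.add_apply]
    have h1 : (W ^ 2 * bE7) i i = (vE7 s'' ᵥ* bE7) i := by
      rw [Matrix.mul_apply, ← hs'']; rfl
    have h2 : bE7 i i = 2 := (by decide +kernel : ∀ i : Fin 7, bE7 i i = 2) i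
    have := boundE7 s'' i
    rw [h1, h2]
    linarith
  obtain ⟨hS, hw, hn⟩ := rank_one_form hfv hi0 (fun h => by simp [h] at huv) hsym hsq hpos
  -- all products are even
  have hdiag : ∀ i, (2 : ℤ) ∣ f i * (v ᵥ* bE7) i := by
    intro i
    have h1 : W * W ^ 2 * bE7 = bE7 * Wᵀ := by
      calc W * W ^ 2 * bE7 = W * W ^ 2 * (W * bE7 * Wᵀ) := by rw [hB]
        _ = W ^ 4 * (bE7 * Wᵀ) := by noncomm_ring
        _ = bE7 * Wᵀ := by rw [hW4, Matrix.one_mul]
    have h2 : ε • (M * bE7) = W * bE7 + (W * bE7)ᵀ := by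
      rw [← Matrix.smul_mul, ← hW3, add_mul, h1, Matrix.transpose_mul, hsymB, add_comm]
    have h3 := congrFun (congrFun h2 i) i
    rw [Matrix.smul_apply, hS, Matrix.add_apply, Matrix.transpose_apply, smul_eq_mul] at h3
    refine ⟨ε * (W * bE7) i i, ?_⟩
    linear_combination ε * h3 - (f i * (v ᵥ* bE7) i) * hε2
  obtain ⟨k, hk⟩ : ∃ k : ℤ, v ⬝ᵥ (v ᵥ* bE7) = 2 * k := by
    refine ⟨v 0 * v 0 + v 1 * v 1 + v 2 * v 2 + v 3 * v 3 + v 4 * v 4 + v 5 * v 5 + v 6 * v 6 - v 0 * v 2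
      - v 1 * v 3 - v 2 * v 3 - v 3 * v 4 - v 4 * v 5 - v 5 * v 6, ?_⟩
    simp [vecMul_bE7, dotProduct, Fin.sum_univ_succ]
    ring
  have hkf : ∀ j, (v ᵥ* bE7) j = k * f j := fun j => by
    have := hw j
    rw [hk] at this
    linarith
  have heven : ∀ j, (2 : ℤ) ∣ (v ᵥ* bE7) j := by
    intro j
    rcases Int.prime_two.dvd_mul.1 (hdiag j) with h | h
    · rw [hkf]; exact h.mul_left k
    · exact h
  obtain ⟨x, hx⟩ : ∃ x : Fin 7 → ℤ, (∀ j, v j = 2 * x j) ∨
      v = fun j : Fin 7 => ([0, 1, 0, 0, 1, 0, 1] : List ℤ).getD (j : ℕ) 0 + 2 * x j := by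
    have a0 := heven 0; have a1 := heven 1; have a2 := heven 2; have a3 := heven 3
    have a4 := heven 4; have a5 := heven 5; have a6 := heven 6
    simp [vecMul_bE7] at a0 a1 a2 a3 a4 a5 a6
    refine ⟨fun j => v j / 2, ?_⟩
    by_cases h1 : v 1 % 2 = 0
    · refine Or.inl fun j => ?_
      fin_cases j <;> simp <;> omega
    · refine Or.inr (funext fun j => ?_)
      fin_cases j <;> simp <;> omega
  rcases hx with hx | hx
  · have h2 : (2 : ℤ) ∣ ∑ j, u j * v j := Finset.dvd_sum fun j _ => (hx j ▸ dvd_mul_right 2 (x j)).mul_left _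
    rw [huv] at h2
    norm_num at h2
  have hk4 : k % 4 = 3 := by
    rw [hx] at hk
    simp [vecMul_bE7, dotProduct, Fin.sum_univ_succ] at hk
    obtain ⟨E, hE⟩ : ∃ E : ℤ, k = 3 + 4 * E := ⟨x 0 * x 0 + x 1 * x 1 + x 2 * x 2 + x 3 * x 3 + x 4 * x 4
      + x 5 * x 5 + x 6 * x 6 - x 0 * x 2 - x 1 * x 3 - x 2 * x 3 - x 3 * x 4 - x 4 * x 5 - x 5 * x 6
      + x 1 - x 3 + x 4 - x 5 + x 6, by linarith⟩
    omega
  have hadj : bE7 * aE7 = 2 • (1 : Matrix (Fin 7) (Fin 7) ℤ) := by decide +kernel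
  have hvk : ∀ j, k ∣ v j := by
    intro j
    have h := congrFun (congrArg (v ᵥ* ·) hadj) j
    simp only [← Matrix.vecMul_vecMul] at h
    rw [show v ᵥ* bE7 = k • f from funext hkf, Matrix.smul_vecMul, Matrix.vecMul_smul, Matrix.vecMul_one] at h
    simp only [Pi.smul_apply, smul_eq_mul, nsmul_eq_mul, Nat.cast_ofNat] at h
    have hcop : IsCoprime k 2 := ⟨1, -(k / 2), by omega⟩
    exact hcop.dvd_of_dvd_mul_left ⟨(f ᵥ* aE7) j, h.symm⟩
  have h1 : IsUnit k := isUnit_of_dvd_one (huv ▸ Finset.dvd_sum fun j _ => (hvk j).mul_left _)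
  rcases Int.isUnit_iff.1 h1 with h | h <;> omega

theorem no_three_E7 (W : Matrix (Fin 7) (Fin 7) ℤ) (hroots : ∀ s : Fin 126, ∃ s' : Fin 126,
      vE7 s ᵥ* W = vE7 s')
    (hB : W * bE7 * Wᵀ = bE7) {m : ℕ} (hm : 0 < m)
    (hWm : W ^ m = 1) (hdvd : cyclotomic 4 ℤ ^ 3 ∣ W.charpoly) : False := by
  obtain ⟨ε, hε, hχ⟩ := exists_linear_cofactor hm hWm (cyclotomic.monic 4 ℤ) (n := 3)
    (by rw [natDegree_cyclotomic, show Nat.totient 4 = 2 from by decide]) hdvd
  have hε2 : ε * ε = 1 := by rcases hε with rfl | rfl <;> ring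
  have h0 := aeval_eq_zero_of_dvd_pow hm hWm (p := cyclotomic 4 ℤ * (X - C ε)) (k := 3) (by
    rw [hχ, mul_pow]; exact mul_dvd_mul_left _ (dvd_pow_self _ (by decide)))
  rw [cyclotomic_four, map_mul, map_add, map_sub, map_pow, aeval_X, map_one, aeval_C] at h0
  rw [Algebra.algebraMap_eq_smul_one, mul_sub, mul_smul_comm, mul_one, sub_eq_zero] at h0
  refine no_three_E7_core W hroots hB hε h0 fun M _ hWM => minors_eq_zero (p := cyclotomic 4 ℤ ^ 3) (by
    rw [cyclotomic_four]; simp [sq, hε2]) hχ hWM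

theorem rankOK_E7 : RankOK chevE7 auxE7 [2, 6, 8, 10, 12, 14, 18] := by
  refine rankOK_of_totient (exc := [4]) (by decide) (by decide +kernel) fun d hd b W hW hm hdvd hb => ?_
  obtain ⟨m, hm, hWm⟩ := hm
  have hB := hW.form _ bilE7
  have hroots := hW.roots
  change Matrix (Fin 7) (Fin 7) ℤ at W
  change b * d.totient ≤ 7 at hb
  simp only [List.mem_cons, List.not_mem_nil, or_false] at hd
  subst hd
  show b ≤ 2
  by_contra h
  exact no_three_E7 W hroots hB hm hWm ((pow_dvd_pow _ (by omega : 3 ≤ b)).trans hdvd)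

end CfsgLib.Known.Homocyclic
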