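import Mathlib

/-!
# Recognition of homocyclic groups
-/

set_option autoImplicit false

namespace CfsgLib.Known.Homocyclic

/-- An abelian group of order `m ^ a` and exponent dividing `m = r ^ v` with at most `r ^ a` solutions of `x ^ r = 1`
is homocyclic of rank `a`. -/
theorem nonempty_mulEquiv {P : Type*} [Group P] [Finite P] (hcomm : ∀ x y : P, x * y = y * x)
    {r : ℕ} [Fact r.Prime] (v a : ℕ) (hexp : ∀ x : P, x ^ r ^ v = 1) (hcard : Nat.card P = r ^ (v * a))
    (hsocle : Nat.card {x : P // x ^ r = 1} ≤ r ^ a) :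
    Nonempty (P ≃* (Fin a → Multiplicative (ZMod (r ^ v)))) := by
  classical
  have hr : r.Prime := Fact.out
  let inst : CommGroup P := { (inferInstance : Group P) with mul_comm := hcomm }
  obtain ⟨ι, hι, n, hn, ⟨e⟩⟩ := @CommGroup.equiv_prod_multiplicative_zmod_of_finite P inst _
  have : ∀ i, NeZero (n i) := fun i => ⟨by have := hn i; omega⟩
  have hdvd : ∀ i, n i ∣ r ^ v := by
    intro i
    have h1 := congrArg (fun x => e x i) (hexp (e.symm (Pi.mulSingle i (Multiplicative.ofAdd 1))))
    simp only [map_pow, map_one, MulEquiv.apply_symm_apply, Pi.pow_apply, Pi.mulSingle_eq_same, Pi.one_apply] at h1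
    rw [← ofAdd_nsmul, ofAdd_eq_one, nsmul_one, ZMod.natCast_eq_zero_iff] at h1
    exact h1
  have hrn : ∀ i, r ∣ n i := by
    intro i
    obtain ⟨k, -, hk⟩ := (Nat.dvd_prime_pow hr).1 (hdvd i)
    rw [hk]
    refine dvd_pow_self r fun h => ?_
    have := hn i
    rw [hk, h, pow_zero] at this
    omega
  have hι_le : Fintype.card ι ≤ a := by
    refine (Nat.pow_le_pow_iff_right hr.one_lt).1 (le_trans ?_ hsocle)
    let f : (ι → ZMod r) → {x : P // x ^ r = 1} := fun b =>
      ⟨e.symm fun i => Multiplicative.ofAdd (((n i / r) * (b i).val : ℕ) : ZMod (n i)), by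
        apply e.injective
        funext i
        simp only [map_pow, map_one, MulEquiv.apply_symm_apply, Pi.pow_apply, Pi.one_apply]
        rw [← ofAdd_nsmul, ofAdd_eq_one, nsmul_eq_mul, ← Nat.cast_mul, ZMod.natCast_eq_zero_iff, ← mul_assoc,
          Nat.mul_div_cancel' (hrn i)]
        exact dvd_mul_right _ _⟩
    have hf : Function.Injective f := by
      intro b b' h
      funext i
      have h1 := congrFun (congrArg e (congrArg Subtype.val h)) i
      simp only [f, MulEquiv.apply_symm_apply, EmbeddingLike.apply_eq_iff_eq] at h1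
      have hpos : 0 < n i / r := Nat.div_pos (Nat.le_of_dvd (by have := hn i; omega) (hrn i)) hr.pos
      have hlt : ∀ c : ZMod r, n i / r * c.val < n i := fun c =>
        lt_of_lt_of_le (Nat.mul_lt_mul_of_pos_left (ZMod.val_lt c) hpos) (Nat.div_mul_le_self _ _)
      have h2 := congrArg ZMod.val h1
      rw [ZMod.val_natCast_of_lt (hlt _), ZMod.val_natCast_of_lt (hlt _)] at h2
      exact ZMod.val_injective r (Nat.eq_of_mul_eq_mul_left hpos h2)
    have hle := Nat.card_le_card_of_injective f hf
    rwa [Nat.card_fun, Nat.card_zmod, Nat.card_eq_fintype_card] at hle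
  have hprod : ∏ i, n i = r ^ (v * a) := by
    rw [← hcard, Nat.card_congr e.toEquiv, Nat.card_pi]
    exact Finset.prod_congr rfl fun i _ => by rw [Nat.card_congr Multiplicative.toAdd, Nat.card_zmod]
  have hall : ∀ i, n i = r ^ v := by
    intro i
    by_contra hne
    have hlt : ∏ j, n j < ∏ _j : ι, r ^ v :=
      Finset.prod_lt_prod (fun j _ => by have := hn j; omega) (fun j _ => Nat.le_of_dvd (pow_pos hr.pos v) (hdvd j))
        ⟨i, Finset.mem_univ i, lt_of_le_of_ne (Nat.le_of_dvd (pow_pos hr.pos v) (hdvd i)) hne⟩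
    rw [hprod, Finset.prod_const, Finset.card_univ, ← pow_mul] at hlt
    exact absurd hlt (not_lt.2 (Nat.pow_le_pow_right hr.pos (Nat.mul_le_mul_left v hι_le)))
  rcases Nat.eq_zero_or_pos v with rfl | hv
  · have : Subsingleton P := Finite.card_le_one_iff_subsingleton.1 (by rw [hcard]; simp)
    have : Subsingleton (Multiplicative (ZMod (r ^ 0))) := by
      rw [pow_zero]; exact inferInstanceAs (Subsingleton (ZMod 1))
    exact ⟨{ toFun := fun _ => 1, invFun := fun _ => 1, left_inv := fun _ => Subsingleton.elim _ _,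
             right_inv := fun _ => Subsingleton.elim _ _, map_mul' := fun _ _ => Subsingleton.elim _ _ }⟩
  have hca : Fintype.card ι = a := by
    rw [Finset.prod_congr rfl fun i _ => hall i, Finset.prod_const, Finset.card_univ, ← pow_mul] at hprod
    exact Nat.eq_of_mul_eq_mul_left hv (Nat.pow_right_injective hr.two_le hprod)
  obtain rfl : n = fun _ => r ^ v := funext hall
  exact ⟨e.trans (MulEquiv.arrowCongr (Fintype.equivFinOfCardEq hca)
    (MulEquiv.refl (Multiplicative (ZMod (r ^ v)))))⟩

end CfsgLib.Known.Homocyclic
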