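import Cfsg.Agent.Lib.Known.CyclicTorus.Weyl
import Cfsg.Agent.Lib.Known.CyclicTorus.Gram
import Cfsg.Agent.Lib.Known.CyclicTorus.Main
import Cfsg.Agent.Lib.Known.Homocyclic.Eigen
import Cfsg.Agent.Lib.Known.Homocyclic.Group

/-!
# Sylow subgroups of Chevalley groups for primes prime to the characteristic and to the Weyl group

Such a subgroup is conjugate, over the field with `q ^ d` elements, into the split torus, and its elements of order
`r` then lie in a modular eigenspace of a single Weyl group element.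
-/

set_option autoImplicit false
set_option maxHeartbeats 1600000

namespace CfsgLib.Known.Homocyclic

open Cfsg.Lie (ChevalleyDatum)
open CfsgLib.Lie.Chev
open CfsgLib.Known.CyclicTorus (cvec castV castM wMat BilOK)
open scoped Matrix
open Polynomial (cyclotomic)

variable {D : ChevalleyDatum} {X : Aux}

/-- The check that a vector is fixed modulo `p` by the simple reflections. -/
def ClassOK (D : ChevalleyDatum) (X : Aux) (p : ℕ) (c : Fin D.rank → ℤ) : Prop :=
  ∀ k : Fin D.rank,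
    castV (ZMod p) (c ᵥ* Matrix.of fun i : Fin D.rank => cvec D X (X.w k (D.simple i))) = castV (ZMod p) c

/-- The properties of the matrices of Weyl group elements used for the eigenspace bound. -/
structure WeylLike (D : ChevalleyDatum) (X : Aux) (W : Matrix (Fin D.rank) (Fin D.rank) ℤ) : Prop where
  roots : ∀ s : Fin D.nroots, ∃ s' : Fin D.nroots, cvec D X s ᵥ* W = cvec D X s'
  form : ∀ B, BilOK D X B → W * B * Wᵀ = B
  cls : ∀ (p : ℕ) (c : Fin D.rank → ℤ), ClassOK D X p c → castV (ZMod p) (c ᵥ* W) = castV (ZMod p) c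

/-- The eigenspace bound for a Weyl group with the given degrees. -/
def RankOK (D : ChevalleyDatum) (X : Aux) (degs : List ℕ) : Prop :=
  ∀ (d b : ℕ) (W : Matrix (Fin D.rank) (Fin D.rank) ℤ), (∃ e ∈ degs, d ∣ e) → WeylLike D X W →
    (∃ m, 0 < m ∧ W ^ m = 1) → cyclotomic d ℤ ^ b ∣ W.charpoly → b * d.totient ≤ D.rank →
      b ≤ (degs.filter fun e => d ∣ e).length

theorem castV_vecMul {n : ℕ} (S : Type*) [CommRing S] (c : Fin n → ℤ) (A : Matrix (Fin n) (Fin n) ℤ) :
    castV S (c ᵥ* A) = castV S c ᵥ* castM S A := by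
  funext j
  simp [castV, castM, Matrix.vecMul, dotProduct]

theorem class_invariant {F : Type*} [Field F] {G : Type*} [Group G] (R : Rel D X F G) {p : ℕ}
    {c : Fin D.rank → ℤ} (hc : ClassOK D X p c) (g : R.NS) :
    castV (ZMod p) (c ᵥ* wMat R (R.nsPerm g)) = castV (ZMod p) c := by
  obtain ⟨l, hl⟩ := R.exists_word g
  rw [← R.qact_qmk, hl]
  clear hl
  induction l with
  | nil => rw [CfsgLib.Lie.Exchange.wprod_nil, map_one, CyclicTorus.wMat_one, Matrix.vecMul_one]
  | cons k l ih =>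
    rw [CfsgLib.Lie.Exchange.wprod_cons, map_mul, R.qact_qgen, CyclicTorus.wMat_mul R (R.isLin_wperm k),
      ← Matrix.vecMul_vecMul, castV_vecMul, ih, ← castV_vecMul]
    exact hc k

theorem weylLike {F : Type*} [Field F] {G : Type*} [Group G] (R : Rel D X F G) (g : R.NS) :
    WeylLike D X (wMat R (R.nsPerm g)) :=
  ⟨fun s => ⟨R.nsPerm g s, CyclicTorus.vecMul_wMat R (R.isLin_nsPerm g) s⟩,
    fun _ hB => CyclicTorus.bil_invariant R hB g, fun _ _ hc => class_invariant R hc g⟩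

theorem padicValNat_list_prod {r : ℕ} [Fact r.Prime] :
    ∀ l : List ℕ, (∀ x ∈ l, x ≠ 0) → padicValNat r l.prod = (l.map (padicValNat r)).sum
  | [], _ => by simp
  | x :: l, h => by
    rw [List.prod_cons, List.map_cons, List.sum_cons, padicValNat.mul (h x List.mem_cons_self)
      (List.prod_ne_zero fun h0 => h 0 (List.mem_cons_of_mem _ h0) rfl),
      padicValNat_list_prod l fun y hy => h y (List.mem_cons_of_mem _ hy)]

theorem padicValNat_eq_zero_of_not_dvd' {r n : ℕ} (h : ¬ r ∣ n) : padicValNat r n = 0 :=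
  padicValNat.eq_zero_of_not_dvd h

/-- The `r`-part of `q ^ e - 1`. -/
theorem padicValNat_pow_sub_one {r q d e : ℕ} [Fact r.Prime] (hq : 1 < q) (hd : d = orderOf (q : ZMod r))
    (hd0 : 0 < d) (he : ¬ r ∣ e) :
    padicValNat r (q ^ e - 1) = if d ∣ e then padicValNat r (q ^ d - 1) else 0 := by
  have hr : r.Prime := Fact.out
  split
  next h =>
    obtain ⟨k, rfl⟩ := h
    have hk : ¬ r ∣ k := fun h => he (h.mul_left d)
    have hQ1 : 1 < q ^ d := Nat.one_lt_pow hd0.ne' hq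
    have hQ : r ∣ q ^ d - 1 := by
      rw [← ZMod.natCast_eq_zero_iff, Nat.cast_sub hQ1.le, Nat.cast_pow, Nat.cast_one, hd, pow_orderOf_eq_one,
        sub_self]
    obtain ⟨M, hM, e1⟩ := CyclicTorus.exists_prod_pow_sub_one hr hQ hQ1.le [k] (by simpa using hk)
    simp only [List.map_cons, List.map_nil, List.prod_cons, List.prod_nil, mul_one, List.length_cons,
      List.length_nil, zero_add, pow_one] at e1
    rw [pow_mul, e1, padicValNat.mul (Nat.sub_ne_zero_of_lt hQ1) (fun h => hM (by rw [h]; exact dvd_zero r)), padicValNat.eq_zero_of_not_dvd hM,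
      add_zero]
  next h =>
    refine padicValNat.eq_zero_of_not_dvd fun h1 => h ?_
    rw [← ZMod.natCast_eq_zero_iff, Nat.cast_sub (Nat.one_le_pow _ _ (by omega)), Nat.cast_pow, Nat.cast_one,
      sub_eq_zero] at h1
    exact hd ▸ orderOf_dvd_of_pow_eq_one h1

/-- The `r`-part of the cyclotomic value at the order of `q`. -/
theorem padicValNat_cyclotomic {r q d : ℕ} [Fact r.Prime] (hq : 1 < q) (hd : d = orderOf (q : ZMod r))
    (hd0 : 0 < d) :
    padicValNat r ((cyclotomic d ℤ).eval (q : ℤ)).natAbs = padicValNat r (q ^ d - 1) := by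
  have hr : Nat.Prime r := Fact.out
  have hprod : (q ^ d - 1 : ℕ) = ∏ i ∈ Nat.divisors d, ((cyclotomic i ℤ).eval (q : ℤ)).natAbs := by
    have h := congrArg (Polynomial.eval (q : ℤ)) (Polynomial.prod_cyclotomic_eq_X_pow_sub_one hd0 ℤ)
    rw [Polynomial.eval_prod, Polynomial.eval_sub, Polynomial.eval_pow, Polynomial.eval_X, Polynomial.eval_one] at h
    have h2 := congrArg Int.natAbs h
    rw [← Int.natAbsHom_apply, map_prod] at h2
    simp only [Int.natAbsHom_apply] at h2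
    rw [h2]
    have h3 : ((q : ℤ) ^ d - 1) = ((q ^ d - 1 : ℕ) : ℤ) := by
      rw [Nat.cast_sub (Nat.one_le_pow _ _ (by omega))]; push_cast; ring
    rw [h3, Int.natAbs_natCast]
  have hne : q ^ d - 1 ≠ 0 := Nat.sub_ne_zero_of_lt (Nat.one_lt_pow hd0.ne' hq)
  rw [hprod, ← Finset.mul_prod_erase _ _ (Nat.mem_divisors_self d hd0.ne')] at hne
  rw [hprod, ← Finset.mul_prod_erase _ _ (Nat.mem_divisors_self d hd0.ne'),
    padicValNat.mul (left_ne_zero_of_mul hne) (right_ne_zero_of_mul hne), left_eq_add]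
  refine padicValNat.eq_zero_of_not_dvd fun h => ?_
  obtain ⟨i, hi, hri⟩ := (Prime.dvd_finsetProd_iff hr.prime _).1 h
  rw [Finset.mem_erase, Nat.mem_divisors] at hi
  have h1 : (((cyclotomic i ℤ).eval (q : ℤ) : ℤ) : ZMod r) = 0 :=
    (ZMod.intCast_zmod_eq_zero_iff_dvd _ _).2 (Int.natCast_dvd.2 hri)
  have h2 := Polynomial.eval_dvd (x := (q : ℤ)) (Polynomial.cyclotomic.dvd_X_pow_sub_one i ℤ)
  have h3 : (((q : ℤ) ^ i - 1 : ℤ) : ZMod r) = 0 := by
    obtain ⟨w, hw⟩ := h2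
    simp only [Polynomial.eval_sub, Polynomial.eval_pow, Polynomial.eval_X, Polynomial.eval_one] at hw
    rw [hw, Int.cast_mul, h1, zero_mul]
  push_cast at h3
  rw [sub_eq_zero] at h3
  exact hi.1 (Nat.dvd_antisymm hi.2.1 (hd ▸ orderOf_dvd_of_pow_eq_one h3))

theorem sum_map_ite_eq (l : List ℕ) (d v : ℕ) :
    (l.map fun e => if d ∣ e then v else 0).sum = v * (l.filter fun e => d ∣ e).length := by
  induction l with
  | nil => simp
  | cons x l ih =>
    rw [List.map_cons, List.sum_cons, ih, List.filter_cons]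
    by_cases h : d ∣ x
    · rw [if_pos h, if_pos (decide_eq_true h), List.length_cons]; ring
    · rw [if_neg h, if_neg (by simp [h]), zero_add]

theorem exists_natCast_of_mul_eq_zero {l r N : ℕ} [NeZero N] (hr : 0 < r) {e : ℕ} (hN : N = r * e)
    {k : Fin l → ZMod N} (h : ∀ j, (r : ZMod N) * k j = 0) : ∃ b : Fin l → ℕ, ∀ j, k j = ((e * b j : ℕ) : ZMod N) :=
  Classical.axiom_of_choice fun j => CyclicTorus.exists_eq_natCast_mul hr hN (h j)

/-- The monomial factor of a conjugating element conjugates torus elements in the same way. -/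
theorem conj_eq_of_bnu {F : Type*} [Field F] {G : Type*} [Group G] (R : Rel D X F G) {h₁ h₂ v h u : G}
    (h1 : h₁ ∈ R.HS) (h2 : h₂ ∈ R.HS) (hv : v ∈ R.UP) (hh : h ∈ R.HS) {n : R.NS}
    (hu : u ∈ R.US (invSet (R.nsPerm n))) (hc : v * h * n * u * h₁ = h₂ * (v * h * n * u)) :
    (n : G) * h₁ * (n : G)⁻¹ = h₂ := by
  have hb : v * h ∈ R.BS := mul_mem (R.UP_le_BS hv) (R.HS_le_BS hh)
  have hk : (n : G) * h₁ * (n : G)⁻¹ ∈ R.HS := R.HS_conj n.2 h1
  have hu' : h₁⁻¹ * u * h₁ ∈ R.US (invSet (R.nsPerm n)) := by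
    have := (Subgroup.mem_normalizer_iff.1 (R.HS_le_normalizer_US _ (inv_mem h1)) u).1 hu
    rwa [inv_inv] at this
  have e1 : v * h * ((n : G) * h₁ * (n : G)⁻¹) = h₂ * (v * h) :=
    (R.bnu_unique (n := n) (mul_mem hb (R.HS_le_BS hk)) (mul_mem (R.HS_le_BS h2) hb) hu' hu (by
      rw [show v * h * ((n : G) * h₁ * (n : G)⁻¹) * n * (h₁⁻¹ * u * h₁) = v * h * n * u * h₁ by group, hc]
      group)).1
  have hv' : h₂ * v * h₂⁻¹ ∈ R.UP := (Subgroup.mem_normalizer_iff.1 (R.HS_le_normalizer_US _ h2) v).1 hv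
  have e2 : (h₂ * v * h₂⁻¹)⁻¹ * v = h₂ * h * ((n : G) * h₁ * (n : G)⁻¹)⁻¹ * h⁻¹ := by
    have hv2 : v = h₂ * (v * h) * ((n : G) * h₁ * (n : G)⁻¹)⁻¹ * h⁻¹ := by rw [← e1]; group
    generalize (n : G) * h₁ * (n : G)⁻¹ = k at hv2 ⊢
    calc (h₂ * v * h₂⁻¹)⁻¹ * v = (h₂ * v * h₂⁻¹)⁻¹ * (h₂ * (v * h) * k⁻¹ * h⁻¹) := by rw [← hv2]
      _ = h₂ * h * k⁻¹ * h⁻¹ := by group
  have h3 : (h₂ * v * h₂⁻¹)⁻¹ * v ∈ R.UP ⊓ R.HS :=
    Subgroup.mem_inf.2 ⟨mul_mem (inv_mem hv') hv, by
      rw [e2]; exact mul_mem (mul_mem (mul_mem h2 hh) (inv_mem hk)) (inv_mem hh)⟩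
  rw [R.UP_inf_HS, Subgroup.mem_bot, e2, R.HS_isMulCommutative h2 hh] at h3
  have h4 : h₂ * ((n : G) * h₁ * (n : G)⁻¹)⁻¹ = 1 := by
    have h5 := congrArg (fun x => h⁻¹ * x * h) h3
    simpa [mul_assoc] using h5
  exact (mul_inv_eq_one.1 h4).symm

theorem padicValNat_prod_gcd {r : ℕ} [Fact r.Prime] {n : ℕ} {dd degs : List ℕ}
    (hdd : ∀ i : Fin n, dd.getD i 0 ∣ degs.prod) (hrW : ¬ r ∣ degs.prod) (Q : ℕ) :
    padicValNat r (∏ i : Fin n, Nat.gcd Q (dd.getD i 0)) = 0 :=
  padicValNat.eq_zero_of_not_dvd fun h => by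
    obtain ⟨i, -, hi⟩ := (Prime.dvd_finsetProd_iff (Fact.out (p := r.Prime)).prime _).1 h
    exact hrW ((hi.trans (Nat.gcd_dvd_right _ _)).trans (hdd i))

theorem padicValNat_card_group (C : Cert D X) {M U U' V V' : List (List ℤ)} {dd degs : List ℕ}
    (hM : cmat D = M) (hchk : chkSmith D.rank M U U' V V' dd = true) (hp : chkPoly M D.rank (half D) degs = true)
    (hdd : ∀ i : Fin D.rank, dd.getD i 0 ∣ degs.prod) {r : ℕ} [Fact r.Prime] (hrW : ¬ r ∣ degs.prod)
    (E : Type*) [Field E] [Fintype E] {Q : ℕ} (hQ : Fintype.card E = Q) (hrQ : ¬ r ∣ Q) :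
    padicValNat r (Nat.card ↥(D.group E)) = (degs.map fun e => padicValNat r (Q ^ e - 1)).sum := by
  have hr : r.Prime := Fact.out
  have hQ1 : 1 < Q := hQ ▸ Fintype.one_lt_card
  have h := card_group C E hM hchk hp hQ
  have h2 := congrArg (padicValNat r) h
  have hprod0 : (degs.map fun k => Q ^ k - 1).prod ≠ 0 := List.prod_ne_zero fun h0 => by
    obtain ⟨k, hk, hk0⟩ := List.mem_map.1 h0
    have : k ≠ 0 := fun h => hrW (List.prod_eq_zero (h ▸ hk) ▸ dvd_zero r)
    exact (Nat.sub_ne_zero_of_lt (Nat.one_lt_pow this hQ1)) hk0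
  have hg0 : (∏ i : Fin D.rank, Nat.gcd (Q - 1) (dd.getD i 0)) ≠ 0 := fun h0 => by
    rw [h0, zero_mul] at h
    exact mul_ne_zero (pow_ne_zero _ (by omega)) hprod0 h.symm
  rw [padicValNat.mul hg0 Nat.card_pos.ne', padicValNat_prod_gcd hdd hrW, zero_add,
    padicValNat.mul (pow_ne_zero _ (by omega)) hprod0,
    padicValNat.eq_zero_of_not_dvd (fun h => hrQ (hr.dvd_of_dvd_pow h)), zero_add,
    padicValNat_list_prod _ (fun x hx h0 => by subst h0; exact hprod0 (List.prod_eq_zero hx))] at h2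
  rw [h2, List.map_map]; rfl

/-- Sylow subgroups for primes away from the characteristic and the Weyl group are homocyclic. -/
theorem homocyclic (C : Cert D X) {M U U' V V' : List (List ℤ)} {dd degs : List ℕ}
    (hM : cmat D = M) (hchk : chkSmith D.rank M U U' V V' dd = true)
    (hp : chkPoly M D.rank (half D) degs = true) (hlen : degs.length = D.rank)
    (hdd : ∀ i : Fin D.rank, dd.getD i 0 ∣ degs.prod) (hR : RankOK D X degs)
    {F : Type*} [Field F] [Fintype F] {q : ℕ} (hq : Fintype.card F = q)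
    (r : ℕ) [Fact r.Prime] (hrq : ¬ r ∣ q) (hrW : ¬ r ∣ degs.prod) (hrG : r ∣ Nat.card ↥(D.group F))
    (P : Sylow r ↥(D.group F)) :
    Nonempty (↥(P : Subgroup ↥(D.group F)) ≃*
      (Fin (degs.filter (fun e => orderOf (q : ZMod r) ∣ e)).length →
        Multiplicative (ZMod (r ^ padicValNat r ((cyclotomic (orderOf (q : ZMod r)) ℤ).eval (q : ℤ)).natAbs)))) := by
  classical
  have hr : r.Prime := Fact.out
  have hq1 : 1 < q := hq ▸ Fintype.one_lt_card
  have hz0 : (q : ZMod r) ≠ 0 := fun h => hrq ((ZMod.natCast_eq_zero_iff _ _).1 h)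
  obtain ⟨d, hd⟩ : ∃ d, d = orderOf (q : ZMod r) := ⟨_, rfl⟩
  have hd1 : d ∣ r - 1 := hd ▸ ZMod.orderOf_dvd_card_sub_one hz0
  have hr2 := hr.two_le
  have hd0 : 0 < d := Nat.pos_of_ne_zero fun h => by rw [h, zero_dvd_iff] at hd1; omega
  have hrd : ¬ r ∣ d := fun h => by
    have := Nat.le_of_dvd hd0 h
    have := Nat.le_of_dvd (by omega) hd1
    omega
  have hz : IsPrimitiveRoot (q : ZMod r) d := hd ▸ IsPrimitiveRoot.orderOf _
  rw [← hd]
  obtain ⟨v, hv⟩ : ∃ v, v = padicValNat r ((cyclotomic d ℤ).eval (q : ℤ)).natAbs := ⟨_, rfl⟩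
  rw [← hv]
  have hv' : v = padicValNat r (q ^ d - 1) := by rw [hv, padicValNat_cyclotomic hq1 hd hd0]
  obtain ⟨a, ha⟩ : ∃ a, a = (degs.filter (fun e => d ∣ e)).length := ⟨_, rfl⟩
  rw [← ha]
  have hdeg : ∀ e ∈ degs, ¬ r ∣ e := fun e he h => hrW (h.trans (List.dvd_prod he))
  -- valuations of orders
  have hgcd : ∀ Q : ℕ, padicValNat r (∏ i : Fin D.rank, Nat.gcd Q (dd.getD i 0)) = 0 :=
    padicValNat_prod_gcd hdd hrW
  have hvalF : padicValNat r (Nat.card ↥(D.group F)) = v * a := by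
    rw [padicValNat_card_group C hM hchk hp hdd hrW F hq hrq, List.map_congr_left fun e he => padicValNat_pow_sub_one hq1 hd hd0 (hdeg e he),
      sum_map_ite_eq, hv', ha]
  have hdeg' : ∃ e ∈ degs, d ∣ e := by
    by_contra hno
    have h := (padicValNat.eq_zero_iff (p := r) (n := Nat.card ↥(D.group F))).1 (by
      rw [hvalF, ha, List.filter_eq_nil_iff.2 fun e he => by simpa using fun h => hno ⟨e, he, h⟩,
        List.length_nil, mul_zero])
    exact h.elim (fun h => hr.one_lt.ne' h) fun h => h.elim (fun h => Nat.card_pos.ne' h) fun h => h hrG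
  -- the extension field
  obtain ⟨pc, hc⟩ := CharP.exists F
  have := hc
  obtain ⟨pa, hpc, hqp⟩ := FiniteField.card F pc
  have : Fact pc.Prime := ⟨hpc⟩
  have : NeZero d := ⟨hd0.ne'⟩
  let K := FiniteField.Extension F pc d
  have : Finite K := Module.finite_of_finite F
  let : Fintype K := Fintype.ofFinite K
  obtain ⟨Q, hQ⟩ : ∃ Q, Q = q ^ d := ⟨_, rfl⟩
  have hK : Fintype.card K = Q := by
    rw [hQ, ← Nat.card_eq_fintype_card, ← hq, ← Nat.card_eq_fintype_card]
    exact FiniteField.natCard_extension F pc d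
  obtain ⟨N, hN⟩ : ∃ N, N = Nat.card Kˣ := ⟨_, rfl⟩
  have hNQ : N = Q - 1 := by rw [hN, Nat.card_units, Nat.card_eq_fintype_card, hK]
  have hQ1 : 1 < Q := hQ ▸ Nat.one_lt_pow hd0.ne' hq1
  have hrN : r ∣ N := by
    rw [hNQ, hQ, ← ZMod.natCast_eq_zero_iff, Nat.cast_sub (Nat.one_le_pow _ _ (by omega)), Nat.cast_pow,
      Nat.cast_one, hd, pow_orderOf_eq_one, sub_self]
  have : NeZero N := ⟨by omega⟩
  have hvN : padicValNat r N = v := by rw [hNQ, hQ, hv']
  have hrQ : ¬ r ∣ Q := fun h => hrq (hr.dvd_of_dvd_pow (hQ ▸ h))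
  have hQord : 1 = orderOf (Q : ZMod r) := by
    rw [hQ, Nat.cast_pow, hd, pow_orderOf_eq_one, orderOf_one]
  have hvalK : padicValNat r (Nat.card ↥(D.group K)) = v * D.rank := by
    rw [padicValNat_card_group C hM hchk hp hdd hrW K hK hrQ, List.map_congr_left fun e he => padicValNat_pow_sub_one hQ1 hQord one_pos (hdeg e he),
      sum_map_ite_eq, pow_one, ← hNQ, hvN, List.filter_eq_self.2 fun e _ => by simp, hlen]
  have hvalH : padicValNat r (Nat.card ↥(chevRel C K).HS) = v * D.rank := by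
    have h := card_HS_mul C K hM hchk
    rw [hK] at h
    have h2 := congrArg (padicValNat r) h
    rw [padicValNat.mul (fun h0 => by rw [h0, zero_mul] at h; exact pow_ne_zero _ (by omega) h.symm)
      Nat.card_pos.ne', hgcd, zero_add, padicValNat.pow, ← hNQ, hvN, mul_comm] at h2
    exact h2
  -- a Sylow subgroup of `G(K)` inside the torus
  obtain ⟨S0, -⟩ : ∃ S0 : Sylow r ↥(chevRel C K).HS, True := ⟨Classical.arbitrary _, trivial⟩
  obtain ⟨S1, hS1⟩ : ∃ S1 : Sylow r ↥(D.group K),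
      (S1 : Subgroup ↥(D.group K)) = (S0 : Subgroup _).map (chevRel C K).HS.subtype := by
    refine ⟨Sylow.ofCard ((S0 : Subgroup _).map (chevRel C K).HS.subtype) ?_, rfl⟩
    rw [Subgroup.card_map_of_injective (Subgroup.subtype_injective _), S0.card_eq_multiplicity]
    refine congrArg (r ^ ·) ?_
    rw [Nat.factorization_def _ hr, Nat.factorization_def _ hr, hvalH, hvalK]
  -- the Frobenius map
  obtain ⟨σ, hσ⟩ : ∃ σ : K ≃+* K, ∀ b, σ b = b ^ q := by
    have : CharP K pc := charP_of_injective_algebraMap (algebraMap F K).injective pc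
    have hb : Function.Bijective (iterateFrobenius K pc pa) :=
      Finite.injective_iff_bijective.1 (RingHom.injective _)
    exact ⟨RingEquiv.ofBijective _ hb, fun b => by
      rw [RingEquiv.ofBijective_apply, iterateFrobenius_def, ← hq, hqp]⟩
  obtain ⟨ι, hι⟩ : ∃ ι : F →+* K, ι = algebraMap F K := ⟨_, rfl⟩
  have hσι : ∀ c, σ (ι c) = ι c := fun c => by rw [hσ, ← map_pow, ← hq, FiniteField.pow_card]
  obtain ⟨J, hJ⟩ : ∃ J, J = ChevFixed.groupMap D ι := ⟨_, rfl⟩
  have hJinj : Function.Injective J := hJ ▸ ChevFixed.groupMap_injective ι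
  obtain ⟨φ, hφ⟩ : ∃ φ, φ = fieldAut D σ := ⟨_, rfl⟩
  have hφJ : ∀ g, φ (J g) = J g := fun g => by
    rw [hφ, hJ]
    exact Subtype.ext (Units.ext (Matrix.ext fun a b => hσι _))
  -- conjugating the Sylow subgroup into the torus
  obtain ⟨P1, hP1⟩ := ((P.isPGroup').map J).exists_le_sylow
  obtain ⟨Y, hY⟩ := MulAction.exists_smul_eq ↥(D.group K) P1 S1
  have hinH : ∀ x ∈ (P : Subgroup ↥(D.group F)), Y * J x * Y⁻¹ ∈ (chevRel C K).HS := by
    intro x hx
    have h1 : Y * J x * Y⁻¹ ∈ (S1 : Subgroup ↥(D.group K)) := by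
      rw [← hY, Sylow.coe_subgroup_smul, Subgroup.mem_pointwise_smul_iff_inv_smul_mem, MulAut.smul_def,
        ← map_inv, MulAut.conj_apply]
      simpa [mul_assoc] using hP1 (Subgroup.mem_map_of_mem J hx)
    rw [hS1] at h1
    exact Subgroup.map_subtype_le _ h1
  -- discrete logarithms
  obtain ⟨lgE, -⟩ : ∃ e : Additive Kˣ ≃+ ZMod N, True :=
    ⟨hN ▸ (MulEquiv.toAdditive (zmodCyclicMulEquiv (G := Kˣ) inferInstance).symm).trans
      (AddEquiv.additiveMultiplicative _), trivial⟩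
  obtain ⟨lg, hlg⟩ : ∃ lg : Kˣ → ZMod N, ∀ u, lg u = lgE (Additive.ofMul u) := ⟨_, fun _ => rfl⟩
  have hlg_mul : ∀ u w, lg (u * w) = lg u + lg w := fun u w => by rw [hlg, hlg, hlg, ofMul_mul, map_add]
  have hlg_zpow : ∀ (u : Kˣ) (z : ℤ), lg (u ^ z) = (z : ZMod N) * lg u := fun u z => by
    rw [hlg, hlg, ofMul_zpow, map_zsmul, zsmul_eq_mul]
  have hlg_prod : ∀ f : Fin D.rank → Kˣ, lg (∏ i, f i) = ∑ i, lg (f i) := fun f => by
    rw [hlg, ofMul_prod, map_sum]
    exact Finset.sum_congr rfl fun i _ => (hlg _).symm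
  have hlg_inj : Function.Injective lg := fun u w h => by
    rw [hlg, hlg] at h
    exact Additive.ofMul.injective (lgE.injective h)
  have hlg_one : lg 1 = 0 := by rw [hlg, ofMul_one, map_zero]
  obtain ⟨val, hval⟩ : ∃ val : (Fin D.rank → Kˣ) → Fin D.nroots → Kˣ, ∀ c s,
      val c s = ∏ i : Fin D.rank, c i ^ D.cartan i s := ⟨_, fun _ _ => rfl⟩
  obtain ⟨kc, hkc⟩ : ∃ kc : (Fin D.rank → Kˣ) → Fin D.rank → ZMod N, ∀ c j,
      kc c j = lg (val c ((chevRel C K).sroot j)) := ⟨_, fun _ _ => rfl⟩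
  have hkc_val : ∀ c (s : Fin D.nroots), lg (val c s) = castV (ZMod N) (cvec D X s) ⬝ᵥ kc c := by
    intro c s
    simp only [dotProduct, hkc, hval, hlg_prod, hlg_zpow, castV, cvec, Finset.mul_sum]
    rw [Finset.sum_comm]
    refine Finset.sum_congr rfl fun i _ => ?_
    rw [C.cartan_eq s.2 i.2, Finset.sum_range, Int.cast_sum, Finset.sum_mul]
    refine Finset.sum_congr rfl fun j _ => ?_
    rw [Int.cast_mul, mul_assoc]
    rfl
  have hkc_mul : ∀ c c', kc (c * c') = kc c + kc c' := fun c c' => funext fun j => by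
    simp only [Pi.add_apply, hkc, hval, ← hlg_mul, ← Finset.prod_mul_distrib, Pi.mul_apply, mul_zpow]
  have hkc_one : kc 1 = 0 := funext fun j => by simp [hkc, hval, hlg_one]
  have hkc_pow : ∀ c (z : ℕ), kc (c ^ z) = (z : ZMod N) • kc c := by
    intro c z
    induction z with
    | zero => simpa using hkc_one
    | succ z ih => rw [pow_succ, hkc_mul, ih, Nat.cast_succ, add_smul, one_smul]
  obtain ⟨T, hT⟩ : ∃ T : (Fin D.rank → Kˣ) →* ↥(D.group K),
      T = ((chevRel C K).HS.subtype).comp (chevRel C K).torusHom := ⟨_, rfl⟩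
  have hTmem : ∀ c, T c ∈ (chevRel C K).HS := fun c => by rw [hT]; exact SetLike.coe_mem _
  have hTsurj : ∀ g ∈ (chevRel C K).HS, ∃ c, T c = g := fun g hg => by
    obtain ⟨c, hc⟩ := (chevRel C K).torusHom_surjective ⟨g, hg⟩
    exact ⟨c, by rw [hT, MonoidHom.comp_apply, hc]; rfl⟩
  have hTker : ∀ c, T c = 1 ↔ kc c = 0 := by
    intro c
    have h0 : T c = 1 ↔ c ∈ (chevRel C K).torusHom.ker := by
      rw [hT, MonoidHom.mem_ker, MonoidHom.comp_apply]
      exact OneMemClass.coe_eq_one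
    rw [h0, mem_torusHom_ker C K c, MonoidHom.mem_ker, funext_iff, funext_iff]
    refine forall_congr' fun j => ?_
    rw [hkc, Pi.zero_apply, Pi.one_apply, ← hlg_one, hlg_inj.eq_iff, powMat_apply, hval]
    have e : ∀ i : Fin D.rank, (Matrix.of fun i k : Fin D.rank => ((cmat D).getD i []).getD k 0) i j =
        D.cartan i ((chevRel C K).sroot j) := fun i => by
      simp [cmat, List.getD_eq_getElem?_getD, i.2, j.2, Rel.sroot]
    simp only [e]
  have hkc_eq : ∀ c c', T c = T c' ↔ kc c = kc c' := by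
    intro c c'
    have h1 := hkc_mul (c / c') c'
    rw [div_mul_cancel] at h1
    rw [← div_eq_one, ← map_div, hTker, h1, add_eq_right]
  have hTmon : ∀ c, (chevRel C K).IsMon (T c) 1 fun s => ((val c s : Kˣ) : K) := fun c => by
    simp only [hval, hT]
    exact TrialityTorus.isMon_torusHom (chevRel C K) c
  have hφT : ∀ c, φ (T c) = T (c ^ q) := fun c => by
    rw [hφ, hT, MonoidHom.comp_apply, MonoidHom.comp_apply]
    refine (ChevFixed.fieldAut_torusHom C σ c).trans ?_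
    refine congrArg (fun c => (((chevRel C K).torusHom c : (chevRel C K).HS) : ↥(D.group K))) (funext fun i => Units.ext ?_)
    simp [hσ]
  -- coordinates of a torus element
  choose cof hcof using fun x : ↥(P : Subgroup ↥(D.group F)) => hTsurj _ (hinH x.1 x.2)
  obtain ⟨e, he⟩ : ∃ e : ↥(P : Subgroup ↥(D.group F)) → Fin D.rank → ZMod N, ∀ x, e x = kc (cof x) :=
    ⟨_, fun _ => rfl⟩
  have he_mul : ∀ x y, e (x * y) = e x + e y := fun x y => by
    rw [he, he, he, ← hkc_mul, ← hkc_eq, map_mul, hcof, hcof, hcof, Subgroup.coe_mul, map_mul]; group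
  have he_inj : Function.Injective e := fun x y h => by
    rw [he, he, ← hkc_eq, hcof, hcof, mul_left_inj, mul_right_inj] at h
    exact Subtype.ext (hJinj h)
  have he_pow : ∀ x (n : ℕ), e (x ^ n) = (n : ZMod N) • e x := by
    intro x n
    rw [he, he, ← hkc_pow, ← hkc_eq, map_pow, hcof, hcof, Subgroup.coe_pow, map_pow, conj_pow]
  have he_one : e 1 = 0 := by simpa using he_pow 1 0
  -- structure of the Sylow subgroup
  have hcardP : Nat.card ↥(P : Subgroup ↥(D.group F)) = r ^ (v * a) := by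
    rw [P.card_eq_multiplicity, Nat.factorization_def _ hr, hvalF]
  refine nonempty_mulEquiv (fun x y => he_inj (by rw [he_mul, he_mul, add_comm])) v a (fun x => he_inj ?_) hcardP ?_
  · obtain ⟨k, hk⟩ := P.isPGroup' x
    rw [he_pow, he_one]
    have hx := he_pow x (r ^ k)
    rw [hk, he_one] at hx
    obtain ⟨N', hN', hrN'⟩ : ∃ N', N = r ^ v * N' ∧ ¬ r ∣ N' := by
      refine ⟨N / r ^ v, (Nat.mul_div_cancel' (hvN ▸ pow_padicValNat_dvd)).symm, fun h => ?_⟩
      refine pow_succ_padicValNat_not_dvd (p := r) (NeZero.ne N) ?_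
      rw [hvN, pow_succ]
      calc r ^ v * r ∣ r ^ v * (N / r ^ v) := Nat.mul_dvd_mul_left _ h
        _ = N := Nat.mul_div_cancel' (hvN ▸ pow_padicValNat_dvd)
    have key : ∀ z : ℕ, N ∣ r ^ k * z → N ∣ r ^ v * z := fun z hz => by
      rw [hN'] at hz ⊢
      exact Nat.mul_dvd_mul_left _ (((Nat.Coprime.pow_right k (hr.coprime_iff_not_dvd.2 hrN').symm)).dvd_of_dvd_mul_left
        ((dvd_mul_left _ _).trans hz))
    funext j
    have hxj := congrFun hx j
    rw [Pi.smul_apply, smul_eq_mul, Pi.zero_apply] at hxj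
    rw [Pi.smul_apply, smul_eq_mul, Pi.zero_apply, ← ZMod.natCast_zmod_val (e x j), ← Nat.cast_mul,
      ZMod.natCast_eq_zero_iff]
    rw [← ZMod.natCast_zmod_val (e x j), eq_comm, ← Nat.cast_mul, ZMod.natCast_eq_zero_iff] at hxj
    exact key _ hxj
  -- elements of order `r` lie in one eigenspace
  obtain ⟨g, hg⟩ : ∃ g, g = φ Y * Y⁻¹ := ⟨_, rfl⟩
  have hconj : ∀ x, g * T (cof x) = φ (T (cof x)) * g := by
    intro x
    rw [hg, hcof, map_mul, map_mul, map_inv, hφJ]; group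
  obtain ⟨b0, hb0, m, u, hu, hgbnu⟩ := (chevRel C K).exists_bnu g
  have hmT : ∀ x, (m : ↥(D.group K)) * T (cof x) * (m : ↥(D.group K))⁻¹ = φ (T (cof x)) := by
    intro x
    have h1 := hTmem (cof x)
    have h2 : φ (T (cof x)) ∈ (chevRel C K).HS := by rw [hφT]; exact hTmem _
    obtain ⟨w, hw, h, hh, hb⟩ := (chevRel C K).exists_of_mem_BS hb0
    exact conj_eq_of_bnu (chevRel C K) h1 h2 hw hh hu (by rw [← hb, ← hgbnu]; exact hconj x)
  obtain ⟨W, hW⟩ : ∃ W, W = wMat (chevRel C K) ((chevRel C K).nsPerm m⁻¹) := ⟨_, rfl⟩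
  have heig : ∀ x, castM (ZMod N) W *ᵥ e x = (q : ZMod N) • e x := by
    intro x
    obtain ⟨π, hπ⟩ : ∃ π, π = (chevRel C K).nsPerm m := ⟨_, rfl⟩
    obtain ⟨c, hc⟩ : ∃ c, c = cof x := ⟨_, rfl⟩
    obtain ⟨d', hd'⟩ := hTsurj _ ((chevRel C K).HS_conj m.2 (hTmem c))
    have hdval : ∀ s, val d' (π s) = val c s := by
      intro s
      obtain ⟨b, hb⟩ := (chevRel C K).isMon_nsPerm m
      have h1 := (chevRel C K).isMon_mul ((chevRel C K).isMon_mul hb (hTmon c)) ((chevRel C K).isMon_inv hb)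
      rw [mul_one, mul_inv_cancel, ← hd'] at h1
      have h2 := congrFun ((chevRel C K).isMon_unique (hTmon d') h1).2 (π s)
      refine Units.ext (h2.trans ?_)
      have hs : ((chevRel C K).nsPerm m)⁻¹ (π s) = s := by rw [hπ, Equiv.Perm.inv_def, Equiv.symm_apply_apply]
      simp only [Equiv.Perm.one_apply, hs]
      rw [mul_comm (b s), mul_assoc, mul_inv_cancel₀ (hb s).1, mul_one]
    have hWd : castM (ZMod N) (wMat (chevRel C K) π) *ᵥ kc d' = kc c := funext fun j => by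
      show castV (ZMod N) (cvec D X (π ((chevRel C K).sroot j) : ℕ)) ⬝ᵥ kc d' = _
      rw [← hkc_val, hdval, hkc]
    have hinv : castM (ZMod N) W * castM (ZMod N) (wMat (chevRel C K) π) = 1 := by
      rw [castM, castM, ← map_mul, hW, hπ, ← CyclicTorus.wMat_mul (chevRel C K) ((chevRel C K).isLin_nsPerm _),
        map_inv, mul_inv_cancel, CyclicTorus.wMat_one, map_one]
    have hd'q : kc d' = kc (c ^ q) := (hkc_eq _ _).1 (by rw [← hφT, hd', hc, hmT])
    rw [he, ← hc, ← hkc_pow, ← hd'q, ← hWd, Matrix.mulVec_mulVec, hinv, Matrix.one_mulVec]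
  obtain ⟨o, ho⟩ : ∃ o, o = orderOf ((chevRel C K).nsPerm m⁻¹) := ⟨_, rfl⟩
  have hro : ¬ r ∣ o := by
    intro hro
    have h1 : o ∣ Nat.card (chevRel C K).WQ := by
      rw [ho, ← (chevRel C K).qact_qmk]
      exact (orderOf_map_dvd _ _).trans (orderOf_dvd_natCard _)
    have h2 : Nat.card (chevRel C K).WQ * Nat.card ↥(chevRel C K).HS = Nat.card ↥(chevRel C K).NS := by
      rw [← Nat.card_congr (Subgroup.subgroupOfEquivOfLe (chevRel C K).HS_le_NS).toEquiv]
      exact (Subgroup.card_eq_card_quotient_mul_card_subgroup _).symm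
    have h3 : r ^ (v * D.rank + 1) ∣ Nat.card ↥(D.group K) := by
      refine Dvd.dvd.trans ?_ (h2 ▸ Subgroup.card_subgroup_dvd_card (chevRel C K).NS)
      rw [pow_succ', ← hvalH]
      exact mul_dvd_mul (hro.trans h1) pow_padicValNat_dvd
    rw [← hvalK] at h3
    exact pow_succ_padicValNat_not_dvd Nat.card_pos.ne' h3
  have ho0 : 0 < o := ho ▸ orderOf_pos _
  have hWo : W ^ o = 1 := by
    rw [hW, ← CyclicTorus.wMat_pow (chevRel C K) ((chevRel C K).isLin_nsPerm _), ho, pow_orderOf_eq_one,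
      CyclicTorus.wMat_one]
  obtain ⟨b, hb, hbl, hbcard⟩ := exists_card_eigen W ho0 hWo hro hrd hz
  refine le_trans ?_ (Nat.pow_le_pow_right hr.pos
    ((hR d b W hdeg' (hW ▸ weylLike (chevRel C K) m⁻¹) ⟨o, ho0, hWo⟩ hb hbl).trans ha.ge))
  rw [← hbcard]
  obtain ⟨N1, hN1⟩ := hrN
  have hN10 : 0 < N1 := Nat.pos_of_ne_zero fun h => by rw [h, mul_zero] at hN1; exact NeZero.ne N hN1
  have hsel : ∀ x : {x : ↥(P : Subgroup ↥(D.group F)) // x ^ r = 1}, ∃ b' : Fin D.rank → ℕ,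
      ∀ j, e x.1 j = ((N1 * b' j : ℕ) : ZMod N) := fun x => by
    refine exists_natCast_of_mul_eq_zero hr.pos hN1 fun j => ?_
    have h := congrFun (he_pow x.1 r) j
    rw [x.2, he_one] at h
    simpa using h.symm
  choose bof hbof using hsel
  refine Nat.card_le_card_of_injective (fun x => ⟨fun j => ((bof x j : ℕ) : ZMod r), ?_⟩) ?_
  · funext i
    have h := congrFun (heig x.1) i
    simp only [castM, RingHom.mapMatrix_apply, Matrix.mulVec, dotProduct, Matrix.map_apply, eq_intCast,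
      Pi.smul_apply, smul_eq_mul, hbof] at h
    have h2 : (((N1 : ℤ) * ((∑ j, W i j * (bof x j : ℤ)) - (q : ℤ) * (bof x i : ℤ)) : ℤ) : ZMod N) = 0 := by
      push_cast
      rw [mul_sub, sub_eq_zero, Finset.mul_sum]
      refine Eq.trans (Finset.sum_congr rfl fun j _ => ?_) (h.trans ?_)
      · push_cast; ring
      · push_cast; ring
    rw [ZMod.intCast_zmod_eq_zero_iff_dvd, hN1, Nat.cast_mul, mul_comm (r : ℤ)] at h2
    have h3 := (ZMod.intCast_zmod_eq_zero_iff_dvd _ r).2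
      ((mul_dvd_mul_iff_left (by exact_mod_cast hN10.ne' : (N1 : ℤ) ≠ 0)).1 h2)
    push_cast at h3
    rw [sub_eq_zero] at h3
    simpa [Matrix.mulVec, dotProduct] using h3
  · intro x y hxy
    have h1 := congrArg Subtype.val hxy
    refine Subtype.ext (he_inj (funext fun j => ?_))
    rw [hbof, hbof, ZMod.natCast_eq_natCast_iff', hN1, mul_comm r N1, Nat.mul_mod_mul_left, Nat.mul_mod_mul_left]
    exact congrArg (N1 * ·) ((ZMod.natCast_eq_natCast_iff' _ _ _).1 (congrFun h1 j))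

end CfsgLib.Known.Homocyclic
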